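import Groth.Agent.CurvSt.K901.EtSch
import Groth.Agent.Flat2D.GeomFib
import Groth.Agent.S1364
import Groth.Agent.S0435

/-!
Loci of conditions on the geometric fibres of pointed families of schemes.

* `K901.SchLoc.Loc P f σ hσ`: the set of `s` such that all geometric fibres over `s` satisfy `P`; `locus_toSpFam`.
* `loc_inter_eq`: comparison with a set `U` over which the condition is read off.
* `forall_iff_of_isPullback`, `isOpen_fib`: pointwise conditions.
* `connectedSpace_iff`, `isOpen_conn`: connectedness of the geometric fibres.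
-/

set_option autoImplicit false

universe u

open CategoryTheory CategoryTheory.Limits AlgebraicGeometry Opposite

namespace K901.SchLoc

open CurvSt AlgSp K901.GeomFibAt K901.GeomLoc K901.EtSch K901.Loci
open Groth.Agent

section Loc

variable {n : ℕ} {P Q : FibProp.{u} n} {C T : Scheme.{u}} (f : C ⟶ T) (σ : Fin n → (T ⟶ C)) (hσ : ∀ i, σ i ≫ f = 𝟙 T)

variable (P) in
/-- The set of points over which all geometric fibres satisfy `P`. -/
def Loc : Set T :=
  {s | ∀ (Ω : Type u) [Field Ω] [IsAlgClosed Ω] (t : Spec (CommRingCat.of Ω) ⟶ T),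
    t.base (IsLocalRing.closedPoint Ω) = s → ∀ (X' : Scheme.{u}) (i : X' ⟶ C) (q : X' ⟶ Spec (CommRingCat.of Ω))
      (hP : IsPullback i q f t), P Ω X' q (markedPt σ hσ hP)}

theorem locus_toSpFam {S : Scheme.{u}} (P : FibProp.{u} n) (B : PtFamObj S n) :
    locus P ((toSpFam S n).obj B) = Loc P B.f B.sect B.sect_f := by
  ext s
  constructor
  · intro h Ω _ _ t ht
    exact (geomFibAt_toSpFam_iff B t).1 (h Ω t ht)
  · intro h Ω _ _ t ht
    exact (geomFibAt_toSpFam_iff B t).2 (h Ω t ht)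

theorem mem_loc_iff_of {s : T} (p : Prop)
    (h : ∀ (Ω : Type u) [Field Ω] [IsAlgClosed Ω] (t : Spec (CommRingCat.of Ω) ⟶ T),
      t.base (IsLocalRing.closedPoint Ω) = s → ∀ (X' : Scheme.{u}) (i : X' ⟶ C) (q : X' ⟶ Spec (CommRingCat.of Ω))
      (hP : IsPullback i q f t), P Ω X' q (markedPt σ hσ hP) ↔ p) : s ∈ Loc P f σ hσ ↔ p := by
  constructor
  · intro hs
    obtain ⟨Ω, _, _, t, ht⟩ := exists_geomPt s
    exact (h Ω t ht _ _ _ (IsPullback.of_hasPullback f t)).1 (hs Ω t ht _ _ _ (IsPullback.of_hasPullback f t))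
  · intro hs Ω _ _ t ht X' i q hP
    exact (h Ω t ht X' i q hP).2 hs

/-- If over `V` the condition is equivalent to membership of the image of the geometric point in `U`, then the locus and `U`
agree on `V`. -/
theorem loc_inter_eq {V U : Set T}
    (h : ∀ (Ω : Type u) [Field Ω] [IsAlgClosed Ω] (t : Spec (CommRingCat.of Ω) ⟶ T),
      t.base (IsLocalRing.closedPoint Ω) ∈ V → ∀ (X' : Scheme.{u}) (i : X' ⟶ C) (q : X' ⟶ Spec (CommRingCat.of Ω))
      (hP : IsPullback i q f t), P Ω X' q (markedPt σ hσ hP) ↔ t.base (IsLocalRing.closedPoint Ω) ∈ U) :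
    V ∩ Loc P f σ hσ = V ∩ U := by
  ext s
  refine and_congr_right fun hs => ?_
  refine mem_loc_iff_of f σ hσ _ fun Ω _ _ t ht X' i q hP => ?_
  have h1 := h Ω t (by rw [ht]; exact hs) X' i q hP
  rwa [ht] at h1

theorem loc_and : Loc (fun Ω _ _ X' q m => P Ω X' q m ∧ Q Ω X' q m) f σ hσ = Loc P f σ hσ ∩ Loc Q f σ hσ := by
  ext s
  constructor
  · intro h
    exact ⟨fun Ω _ _ t ht X' i q hP => (h Ω t ht X' i q hP).1, fun Ω _ _ t ht X' i q hP => (h Ω t ht X' i q hP).2⟩
  · rintro ⟨h1, h2⟩ Ω _ _ t ht X' i q hP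
    exact ⟨h1 Ω t ht X' i q hP, h2 Ω t ht X' i q hP⟩

theorem loc_congr (h : ∀ (Ω : Type u) [Field Ω] [IsAlgClosed Ω] (t : Spec (CommRingCat.of Ω) ⟶ T)
    (X' : Scheme.{u}) (i : X' ⟶ C) (q : X' ⟶ Spec (CommRingCat.of Ω))
      (hP : IsPullback i q f t), P Ω X' q (markedPt σ hσ hP) ↔ Q Ω X' q (markedPt σ hσ hP)) :
    Loc P f σ hσ = Loc Q f σ hσ := by
  ext s
  exact ⟨fun h1 Ω _ _ t ht X' i q hP => (h Ω t X' i q hP).1 (h1 Ω t ht X' i q hP),
    fun h1 Ω _ _ t ht X' i q hP => (h Ω t X' i q hP).2 (h1 Ω t ht X' i q hP)⟩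

/-- Characterisation of marked points. -/
theorem markedPt_eq_of {Ω : Type u} [Field Ω] {t : Spec (CommRingCat.of Ω) ⟶ T} {X' : Scheme.{u}} {i : X' ⟶ C}
    {q : X' ⟶ Spec (CommRingCat.of Ω)} (hP : IsPullback i q f t) (j : Fin n) (x : Spec (CommRingCat.of Ω) ⟶ X')
    (h1 : x ≫ i = t ≫ σ j) (h2 : x ≫ q = 𝟙 _) : markedPt σ hσ hP j = x.base (IsLocalRing.closedPoint Ω) := by
  have h3 : x = hP.lift (t ≫ σ j) (𝟙 _) (by rw [Category.assoc, hσ, Category.comp_id, Category.id_comp]) := by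
    apply hP.hom_ext
    · rw [hP.lift_fst, h1]
    · rw [hP.lift_snd, h2]
  rw [h3]
  rfl

/-- Descent along extensions of algebraically closed fields, from a description of the condition on all geometric fibres of
families over fields. -/
theorem extDesc_of (h : ∀ (Ω₀ : Type u) [Field Ω₀] [IsAlgClosed Ω₀] (X : Scheme.{u}) (f : X ⟶ Spec (CommRingCat.of Ω₀))
    (σ : Fin n → (Spec (CommRingCat.of Ω₀) ⟶ X)) (hσ : ∀ k, σ k ≫ f = 𝟙 _), Flat f → IsProper f →
    LocallyOfFinitePresentation f → ∃ U : Set (Spec (CommRingCat.of Ω₀)),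
    ∀ (Ω : Type u) [Field Ω] [IsAlgClosed Ω] (t : Spec (CommRingCat.of Ω) ⟶ Spec (CommRingCat.of Ω₀))
    (X' : Scheme.{u}) (i : X' ⟶ X) (q : X' ⟶ Spec (CommRingCat.of Ω))
      (hP : IsPullback i q f t), P Ω X' q (markedPt σ hσ hP) ↔ t.base (IsLocalRing.closedPoint Ω) ∈ U) : ExtDesc P := by
  intro Ω Ω' _ _ _ _ e X X' q q' i σ hσ hp _ hP hX'
  have hlfp : LocallyOfFinitePresentation q := LocallyOfFinitePresentation.iff_locallyOfFiniteType.2 inferInstance
  obtain ⟨U, hU⟩ := h Ω X q σ hσ inferInstance hp hlfp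
  have hid : IsPullback (𝟙 X) q q (𝟙 _) := IsPullback.of_horiz_isIso ⟨by simp⟩
  have h1 := (hU Ω' e X' i q' hP).1 hX'
  have h2 : (𝟙 (Spec (CommRingCat.of Ω)) : _ ⟶ _).base (IsLocalRing.closedPoint Ω) ∈ U := by
    have h3 : (𝟙 (Spec (CommRingCat.of Ω)) : _ ⟶ _).base (IsLocalRing.closedPoint Ω) =
      e.base (IsLocalRing.closedPoint Ω') := Subsingleton.elim _ _
    rw [h3]
    exact h1
  have h4 := (hU Ω (𝟙 _) X (𝟙 X) q hid).2 h2
  have h5 : markedPt σ hσ hid = fun k => (σ k).base (IsLocalRing.closedPoint Ω) := by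
    funext k
    exact markedPt_eq_of q σ hσ hid k (σ k) (by rw [Category.comp_id, Category.id_comp]) (hσ k)
  rwa [h5] at h4

end Loc

section Ptwise

/-- A point of the fibre over a geometric point lifts to the geometric fibre. -/
theorem exists_lift_fibre {C T : Scheme.{u}} {f : C ⟶ T} {Ω : Type u} [Field Ω] {t : Spec (CommRingCat.of Ω) ⟶ T}
    {X' : Scheme.{u}} {i : X' ⟶ C} {q : X' ⟶ Spec (CommRingCat.of Ω)} (hP : IsPullback i q f t) (x : C)
    (h : f x = t.base (IsLocalRing.closedPoint Ω)) : ∃ x' : X', i x' = x := by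
  obtain ⟨z, hz, -⟩ := Scheme.exists_preimage_of_isPullback hP x (IsLocalRing.closedPoint Ω) h
  exact ⟨z, hz⟩

theorem apply_eq_of_isPullback {C T : Scheme.{u}} {f : C ⟶ T} {Ω : Type u} [Field Ω]
    {t : Spec (CommRingCat.of Ω) ⟶ T}
    {X' : Scheme.{u}} {i : X' ⟶ C} {q : X' ⟶ Spec (CommRingCat.of Ω)} (hP : IsPullback i q f t) (x' : X') :
    f (i x') = t.base (IsLocalRing.closedPoint Ω) := by
  have h1 : f (i x') = t (q x') := by
    rw [← Scheme.Hom.comp_apply, hP.w, Scheme.Hom.comp_apply]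
  have h2 : q x' = IsLocalRing.closedPoint Ω := Subsingleton.elim _ _
  rw [h1, h2]

variable {R : PtProp.{u}}

theorem forall_iff_of_isPullback (hR : LocusProp R) {C T : Scheme.{u}} {f : C ⟶ T} [Flat f]
    [LocallyOfFinitePresentation f] {Ω : Type u} [Field Ω] {t : Spec (CommRingCat.of Ω) ⟶ T}
    {X' : Scheme.{u}} {i : X' ⟶ C} {q : X' ⟶ Spec (CommRingCat.of Ω)} (hP : IsPullback i q f t) :
    (∀ x', R q x') ↔ ∀ x, f x = t.base (IsLocalRing.closedPoint Ω) → R f x := by
  constructor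
  · intro h x hx
    obtain ⟨x', rfl⟩ := exists_lift_fibre hP x hx
    exact (hR.baseChange f q i t hP x').1 (h x')
  · intro h x'
    exact (hR.baseChange f q i t hP x').2 (h _ (apply_eq_of_isPullback hP x'))

theorem isOpen_fib (hR : LocusProp R) {C T : Scheme.{u}} (f : C ⟶ T) [Flat f] [IsProper f]
    [LocallyOfFinitePresentation f] : IsOpen {s : T | ∀ x, f x = s → R f x} := by
  have h1 := f.isClosedMap _ (hR.isOpen f).isClosed_compl
  have h2 : {s : T | ∀ x, f x = s → R f x} = (f '' {x | R f x}ᶜ)ᶜ := by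
    ext s
    constructor
    · rintro h ⟨x, hx, rfl⟩
      exact hx (h x rfl)
    · intro h x hx
      by_contra hc
      exact h ⟨x, hc, hx⟩
  rw [h2]
  exact h1.isOpen_compl

end Ptwise

section Conn

theorem connectedSpace_iff {C T : Scheme.{u}} {f : C ⟶ T} {Ω : Type u} [Field Ω] [IsAlgClosed Ω]
    {t : Spec (CommRingCat.of Ω) ⟶ T}
    {X' : Scheme.{u}} {i : X' ⟶ C} {q : X' ⟶ Spec (CommRingCat.of Ω)} (hP : IsPullback i q f t) :
    ConnectedSpace X' ↔ MoreMor.nGeomConnComp f (t.base (IsLocalRing.closedPoint Ω)) = 1 := by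
  rw [← Flat2D.GeomFib.nGeomConnComp_eq f t i q hP]
  constructor
  · intro h
    have h1 : Subsingleton (_root_.ConnectedComponents X') := inferInstance
    have h2 : Nonempty (_root_.ConnectedComponents X') := inferInstance
    exact ENat.card_eq_one_iff_unique.2 (nonempty_unique _)
  · intro h
    obtain ⟨hu⟩ := ENat.card_eq_one_iff_unique.1 h
    obtain ⟨x, -⟩ := ConnectedComponents.surjective_coe hu.default
    have : Nonempty X' := ⟨x⟩
    have h3 : PreconnectedSpace X' := by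
      rw [preconnectedSpace_iff_connectedComponent]
      intro y
      ext z
      simp only [Set.mem_univ, iff_true]
      exact ConnectedComponents.coe_eq_coe'.1 (hu.instSubsingleton.elim _ _)
    exact ConnectedSpace.mk inferInstance

/-- A fibre which is geometrically reduced has reduced geometric fibres. -/
theorem isReduced_of_fibre {C T : Scheme.{u}} {f : C ⟶ T} {s : T}
    (h : GeometricallyReduced (f.fiberToSpecResidueField s)) {K : Type u} [Field K]
    {t : Spec (CommRingCat.of K) ⟶ T} (ht : t.base (IsLocalRing.closedPoint K) = s)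
    {X' : Scheme.{u}} {i : X' ⟶ C} {q : X' ⟶ Spec (CommRingCat.of K)} (hP : IsPullback i q f t) :
    IsReduced X' := by
  obtain ⟨⟨s', φ⟩, rfl⟩ := (Scheme.SpecToEquivOfField K T).symm.surjective t
  obtain rfl : s' = s := by
    rw [← ht]
    simp [Scheme.SpecToEquivOfField]
  have h1 : IsPullback (f.fiberι s') (f.fiberToSpecResidueField s') f (T.fromSpecResidueField s') :=
    IsPullback.of_hasPullback _ _
  obtain ⟨p, hp, -⟩ := Flat2D.GeomFib.exists_isPullback_lift h1 hP (Spec.map φ) rfl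
  exact GeometricallyReduced.geometrically_isReduced _ _ _ hp

/-- Over an open set over which the fibres are geometrically reduced the set of points with connected geometric fibre is
open. -/
theorem isOpen_conn {C T : Scheme.{u}} (f : C ⟶ T) [Flat f] [IsProper f] [LocallyOfFinitePresentation f] {U : Set T}
    (hU : IsOpen U) (h : ∀ s ∈ U, GeometricallyReduced (f.fiberToSpecResidueField s)) :
    IsOpen (U ∩ {s : T | MoreMor.nGeomConnComp f s = 1}) := by
  let V : T.Opens := ⟨U, hU⟩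
  have hpb : IsPullback (f ⁻¹ᵁ V).ι (f ∣_ V) f V.ι := (isPullback_morphismRestrict f V).flip
  have h1 : Flat (f ∣_ V) := MorphismProperty.of_isPullback hpb inferInstance
  have h2 : LocallyOfFinitePresentation (f ∣_ V) := MorphismProperty.of_isPullback hpb inferInstance
  have h4 : IsProper (f ∣_ V) := MorphismProperty.of_isPullback hpb inferInstance
  have h3 : GeometricallyReduced (f ∣_ V) := by
    refine ⟨fun K _ y Z fst snd hZ => ?_⟩
    have h5 := hZ.paste_horiz hpb
    exact isReduced_of_fibre (h _ (y.base (IsLocalRing.closedPoint K)).2) rfl h5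
  have h5 := (Groth.Agent.S1364.result (f ∣_ V)).isOpen_fiber 1
  have h6 := V.ι.isOpenEmbedding.isOpenMap _ h5
  convert h6 using 1
  ext s
  constructor
  · rintro ⟨h7, h8⟩
    refine ⟨⟨s, h7⟩, ?_, rfl⟩
    exact (Flat2D.GeomFib.nGeomConnComp_baseChange f (f ∣_ V) (f ⁻¹ᵁ V).ι V.ι hpb ⟨s, h7⟩).trans h8
  · rintro ⟨v, h7, rfl⟩
    exact ⟨v.2, (Flat2D.GeomFib.nGeomConnComp_baseChange f (f ∣_ V) (f ⁻¹ᵁ V).ι V.ι hpb v).symm.trans h7⟩

end Conn

end K901.SchLoc
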