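import Groth.Prelude.Def_FibCat2

/-!
Tools on categories over a base: building equivalences over the base from fully faithful functors,
composition of equivalences over the base.
-/

set_option backward.isDefEq.respectTransparency false
set_option backward.isDefEq.respectTransparency.types false

universe v₅ u₅ v₄ u₄ v₃ u₃ v₂ u₂ v u

open CategoryTheory CategoryTheory.Limits

namespace K901.FibTools

variable {C : Type u} [Category.{v} C]
variable {𝒳 : BasedCategory.{v₂, u₂} C} {𝒴 : BasedCategory.{v₃, u₃} C}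

theorem hom_inv_app {F G : 𝒳 ⥤ᵇ 𝒴} (c : F ≅ G) (x : 𝒳.obj) :
    c.hom.toNatTrans.app x ≫ c.inv.toNatTrans.app x = 𝟙 (F.obj x) := by
  have := congrArg (fun (t : F ⟶ F) => t.toNatTrans.app x) c.hom_inv_id
  exact this

theorem inv_hom_app {F G : 𝒳 ⥤ᵇ 𝒴} (c : F ≅ G) (x : 𝒳.obj) :
    c.inv.toNatTrans.app x ≫ c.hom.toNatTrans.app x = 𝟙 (G.obj x) := by
  have := congrArg (fun (t : G ⟶ G) => t.toNatTrans.app x) c.inv_hom_id
  exact this

/-- The component of a 2-isomorphism, as an isomorphism. -/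
@[simps] def isoApp {F G : 𝒳 ⥤ᵇ 𝒴} (c : F ≅ G) (x : 𝒳.obj) : F.obj x ≅ G.obj x where
  hom := c.hom.toNatTrans.app x
  inv := c.inv.toNatTrans.app x
  hom_inv_id := hom_inv_app c x
  inv_hom_id := inv_hom_app c x

/-- Whiskering a 2-isomorphism on the left. -/
def whiskerLeftIso {𝒵 : BasedCategory.{v₄, u₄} C} (F : 𝒳 ⥤ᵇ 𝒴) {G H : 𝒴 ⥤ᵇ 𝒵} (α : G ≅ H) :
    BasedFunctor.comp F G ≅ BasedFunctor.comp F H where
  hom := BasedCategory.whiskerLeft F α.hom
  inv := BasedCategory.whiskerLeft F α.inv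
  hom_inv_id := by
    apply BasedNatTrans.homCategory.ext
    ext x
    exact hom_inv_app α (F.obj x)
  inv_hom_id := by
    apply BasedNatTrans.homCategory.ext
    ext x
    exact inv_hom_app α (F.obj x)

/-- Whiskering a 2-isomorphism on the right. -/
def whiskerRightIso {𝒵 : BasedCategory.{v₄, u₄} C} {F G : 𝒳 ⥤ᵇ 𝒴} (α : F ≅ G) (H : 𝒴 ⥤ᵇ 𝒵) :
    BasedFunctor.comp F H ≅ BasedFunctor.comp G H where
  hom := BasedCategory.whiskerRight α.hom H
  inv := BasedCategory.whiskerRight α.inv H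
  hom_inv_id := by
    apply BasedNatTrans.homCategory.ext
    ext x
    change H.map (α.hom.toNatTrans.app x) ≫ H.map (α.inv.toNatTrans.app x) = 𝟙 _
    rw [← H.toFunctor.map_comp, hom_inv_app α x]
    exact H.toFunctor.map_id _
  inv_hom_id := by
    apply BasedNatTrans.homCategory.ext
    ext x
    change H.map (α.inv.toNatTrans.app x) ≫ H.map (α.hom.toNatTrans.app x) = 𝟙 _
    rw [← H.toFunctor.map_comp, inv_hom_app α x]
    exact H.toFunctor.map_id _

section mk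

variable (F : 𝒳 ⥤ᵇ 𝒴) [F.toFunctor.Full] [F.toFunctor.Faithful]
  (G : 𝒴.obj → 𝒳.obj) (e : ∀ y, F.obj (G y) ≅ y)
  (he : ∀ y, 𝒴.p.IsHomLift (𝟙 (𝒴.p.obj y)) (e y).hom)

/-- The quasi-inverse over the base. -/
noncomputable def invFunctor : 𝒴 ⥤ᵇ 𝒳 where
  toFunctor :=
    { obj := G
      map := fun {y z} g => F.toFunctor.preimage ((e y).hom ≫ g ≫ (e z).inv)
      map_id := fun y => F.toFunctor.map_injective (by simp)
      map_comp := fun {x y z} f g => F.toFunctor.map_injective (by simp) }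
  w := by
    refine Functor.ext (fun y => ?_) (fun y z g => ?_)
    · have := he y
      exact (F.w_obj (G y)).symm.trans (IsHomLift.domain_eq 𝒴.p (𝟙 (𝒴.p.obj y)) (e y).hom)
    · have hy := he y
      have hz := he z
      have : 𝒴.p.IsHomLift (𝒴.p.map g) (F.map (F.toFunctor.preimage ((e y).hom ≫ g ≫ (e z).inv))) := by
        rw [F.toFunctor.map_preimage]
        infer_instance
      have := (F.isHomLift_iff (𝒴.p.map g) (F.toFunctor.preimage ((e y).hom ≫ g ≫ (e z).inv))).1 this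
      exact IsHomLift.fac' 𝒳.p (𝒴.p.map g) _

include he in
theorem isEquivOver_of_full_faithful : FibCat.IsEquivOver F := by
  refine ⟨invFunctor F G e he, ⟨BasedNatIso.mkNatIso
    (NatIso.ofComponents (fun x => F.toFunctor.preimageIso (e (F.obj x))) ?_) ?_⟩,
    ⟨BasedNatIso.mkNatIso (NatIso.ofComponents (fun y => e y) ?_) ?_⟩⟩
  · intro x y f
    apply F.toFunctor.map_injective
    rw [F.toFunctor.map_comp, F.toFunctor.map_comp, Functor.preimageIso_hom, Functor.preimageIso_hom,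
      F.toFunctor.map_preimage, F.toFunctor.map_preimage]
    change F.map (F.toFunctor.preimage ((e (F.obj x)).hom ≫ F.map f ≫ (e (F.obj y)).inv)) ≫ _ = _ ≫ F.map f
    rw [F.toFunctor.map_preimage]
    simp
  · intro x
    rw [← F.isHomLift_iff]
    have := he (F.obj x)
    have h2 := F.w_obj x
    simp only [NatIso.ofComponents_hom_app, Functor.preimageIso_hom, Functor.map_preimage]
    have key : ∀ (a : C), 𝒴.p.obj (F.obj x) = a → 𝒴.p.IsHomLift (𝟙 a) (e (F.obj x)).hom := by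
      rintro _ rfl; exact this
    exact key _ h2
  · intro x y f
    change F.map (F.toFunctor.preimage ((e x).hom ≫ f ≫ (e y).inv)) ≫ (e y).hom = (e x).hom ≫ f
    rw [F.toFunctor.map_preimage]
    simp
  · intro y
    exact he y

end mk

/-- A fully faithful functor over the base which is essentially surjective over identities is an
equivalence over the base. -/
theorem isEquivOver_of (F : 𝒳 ⥤ᵇ 𝒴) [F.toFunctor.Full] [F.toFunctor.Faithful]
    (h : ∀ y : 𝒴.obj, ∃ (x : 𝒳.obj) (e : F.obj x ≅ y), 𝒴.p.IsHomLift (𝟙 (𝒴.p.obj y)) e.hom) :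
    FibCat.IsEquivOver F := by
  choose G e he using h
  exact isEquivOver_of_full_faithful F G e he

/-- Equivalences over the base compose. -/
theorem isEquivOver_comp {𝒵 : BasedCategory.{v₄, u₄} C} {F : 𝒳 ⥤ᵇ 𝒴} {G : 𝒴 ⥤ᵇ 𝒵}
    (hF : FibCat.IsEquivOver F) (hG : FibCat.IsEquivOver G) :
    FibCat.IsEquivOver (BasedFunctor.comp F G) := by
  obtain ⟨F', ⟨a⟩, ⟨b⟩⟩ := hF
  obtain ⟨G', ⟨c⟩, ⟨d⟩⟩ := hG
  exact ⟨BasedFunctor.comp G' F', ⟨whiskerLeftIso F (whiskerRightIso c F') ≪≫ a⟩,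
    ⟨whiskerLeftIso G' (whiskerRightIso b G) ≪≫ d⟩⟩

/-- The identity is an equivalence over the base. -/
theorem isEquivOver_id : FibCat.IsEquivOver (BasedFunctor.id 𝒳) :=
  ⟨BasedFunctor.id 𝒳, ⟨Iso.refl _⟩, ⟨Iso.refl _⟩⟩

/-- A functor over the base 2-isomorphic to an equivalence over the base is one. -/
theorem isEquivOver_of_iso {F G : 𝒳 ⥤ᵇ 𝒴} (e : F ≅ G) (hF : FibCat.IsEquivOver F) :
    FibCat.IsEquivOver G := by
  obtain ⟨F', ⟨a⟩, ⟨b⟩⟩ := hF
  exact ⟨F', ⟨whiskerRightIso e.symm F' ≪≫ a⟩, ⟨whiskerLeftIso F' e.symm ≪≫ b⟩⟩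

/-- A quasi-inverse over the base. -/
theorem isEquivOver_symm {F : 𝒳 ⥤ᵇ 𝒴} (hF : FibCat.IsEquivOver F) :
    ∃ G : 𝒴 ⥤ᵇ 𝒳, FibCat.IsEquivOver G ∧ Nonempty (BasedFunctor.comp F G ≅ BasedFunctor.id 𝒳) ∧
      Nonempty (BasedFunctor.comp G F ≅ BasedFunctor.id 𝒴) := by
  obtain ⟨G, a, b⟩ := hF
  exact ⟨G, ⟨F, b, a⟩, a, b⟩

theorem isEquivOver_isEquivalence {F : 𝒳 ⥤ᵇ 𝒴} (hF : FibCat.IsEquivOver F) :
    F.toFunctor.IsEquivalence := by
  obtain ⟨G, ⟨a⟩, ⟨b⟩⟩ := hF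
  exact (CategoryTheory.Equivalence.mk F.toFunctor G.toFunctor
    ((BasedNatTrans.forgetful _ _).mapIso a).symm ((BasedNatTrans.forgetful _ _).mapIso b)).isEquivalence_functor

theorem isEquivOver_exists {F : 𝒳 ⥤ᵇ 𝒴} (hF : FibCat.IsEquivOver F) (y : 𝒴.obj) :
    ∃ (x : 𝒳.obj) (e : F.obj x ≅ y), 𝒴.p.IsHomLift (𝟙 (𝒴.p.obj y)) e.hom := by
  obtain ⟨G, ⟨a⟩, ⟨b⟩⟩ := hF
  exact ⟨G.obj y, isoApp b y, b.hom.isHomLift' y⟩

/-- A morphism of a 2-fibre product lies over `g` as soon as its first component does. -/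
theorem fp_isHomLift_of_fst {𝒮 : BasedCategory.{v₄, u₄} C} {F : 𝒳 ⥤ᵇ 𝒮} {G : 𝒴 ⥤ᵇ 𝒮}
    {x y : (FibCat.fp F G).obj} (f : x ⟶ y) {R T : C} (g : R ⟶ T) (h : 𝒳.p.IsHomLift g f.hom.fst) :
    (FibCat.fp F G).p.IsHomLift g f :=
  IsHomLift.of_fac _ _ _ (IsHomLift.domain_eq 𝒳.p g f.hom.fst) (IsHomLift.codomain_eq 𝒳.p g f.hom.fst)
    (IsHomLift.fac 𝒳.p g f.hom.fst)

end K901.FibTools
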