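import Groth.Prelude.Def_AlgSt3
import Groth.Agent.CurvSt.K901.FibTools

/-!
Tools around `AlgSt.spMapOfOver`, `AlgSt.RepByAlgSpWith` and the identification of `ofSch U` with the
slice category.
-/

set_option backward.isDefEq.respectTransparency false
set_option backward.isDefEq.respectTransparency.types false
set_option autoImplicit false

universe v₄ u₄ v₃ u₃ v₂ u₂ v u

open CategoryTheory CategoryTheory.Limits AlgebraicGeometry Opposite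

namespace K901.RepTools

open K901.FibTools

variable {S : Scheme.{u}}

theorem secHom_eq_of_iso {F : AlgSp.Sp S} {U : Over S} {Φ Ψ : AlgSt.ofSp F ⥤ᵇ FibCat.overCat U}
    (e : Φ ≅ Ψ) (a : (AlgSt.ofSp F).obj) : AlgSt.secHom Φ a = AlgSt.secHom Ψ a := by
  have h1 : (FibCat.overCat U).p.IsHomLift (𝟙 ((AlgSt.ofSp F).p.obj a))
    (e.hom.toNatTrans.app a) := e.hom.isHomLift' a
  have h2 := IsHomLift.fac' (FibCat.overCat U).p (𝟙 ((AlgSt.ofSp F).p.obj a))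
    (e.hom.toNatTrans.app a)
  have h3 := Over.w (e.hom.toNatTrans.app a)
  change eqToHom _ ≫ (Φ.obj a).hom = eqToHom _ ≫ (Ψ.obj a).hom
  rw [← h3]
  change eqToHom _ ≫ (FibCat.overCat U).p.map (e.hom.toNatTrans.app a) ≫ _ = _
  rw [h2]
  simp

/-- 2-isomorphic functors to a slice give the same map of sheaves. -/
theorem spMapOfOver_eq_of_iso {F : AlgSp.Sp S} {U : Over S} {Φ Ψ : AlgSt.ofSp F ⥤ᵇ FibCat.overCat U}
    (e : Φ ≅ Ψ) : AlgSt.spMapOfOver Φ = AlgSt.spMapOfOver Ψ := by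
  apply ObjectProperty.hom_ext
  ext T x
  apply ULift.ext
  change AlgSt.secHom Φ ⟨T.unop, x⟩ = AlgSt.secHom Ψ ⟨T.unop, x⟩
  exact secHom_eq_of_iso e ⟨T.unop, x⟩

/-- `toOverCat` and `ofOverCat` are inverse equivalences over the base. -/
theorem isEquivOver_toOverCat (U : Over S) : FibCat.IsEquivOver (AlgSt.toOverCat U) :=
  ⟨AlgSt.ofOverCat U, ⟨Iso.refl _⟩, ⟨Iso.refl _⟩⟩

theorem isEquivOver_ofOverCat (U : Over S) : FibCat.IsEquivOver (AlgSt.ofOverCat U) :=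
  ⟨AlgSt.toOverCat U, ⟨Iso.refl _⟩, ⟨Iso.refl _⟩⟩

/-- The map of sheaves of a composite `ofSch V ⟶ (Sch/V) ⟶ (Sch/U)`. -/
theorem spMapOfOver_overMap {U V : Over S} (j : V ⟶ U) :
    AlgSt.spMapOfOver (BasedFunctor.comp (AlgSt.toOverCat V) (AlgSt.overMap j)) = (AlgSp.yon S).map j := by
  apply ObjectProperty.hom_ext
  ext T x
  apply ULift.ext
  change AlgSt.secHom _ ⟨T.unop, x⟩ = x.down ≫ j
  change eqToHom _ ≫ (x.down ≫ j) = _
  simp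

/-- Transfer a representation along an equivalence over the base compatible with the maps to a slice. -/
theorem rep_transfer {𝒵₁ : BasedCategory.{v₂, u₂} (Over S)} {𝒵₂ : BasedCategory.{v₃, u₃} (Over S)}
    {U : Over S} (q₁ : 𝒵₁ ⥤ᵇ FibCat.overCat U) (q₂ : 𝒵₂ ⥤ᵇ FibCat.overCat U) (Ψ : 𝒵₁ ⥤ᵇ 𝒵₂)
    (hΨ : FibCat.IsEquivOver Ψ) (hq : BasedFunctor.comp Ψ q₂ ≅ q₁) (P : MorphismProperty (AlgSp.Sp S))
    (h : ∃ (F : AlgSp.Space S) (e : AlgSt.ofSp F.obj ⥤ᵇ 𝒵₂), FibCat.IsEquivOver e ∧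
      P (AlgSt.spMapOfOver (BasedFunctor.comp e q₂))) :
    ∃ (F : AlgSp.Space S) (e : AlgSt.ofSp F.obj ⥤ᵇ 𝒵₁), FibCat.IsEquivOver e ∧
      P (AlgSt.spMapOfOver (BasedFunctor.comp e q₁)) := by
  obtain ⟨F, e, he, hP⟩ := h
  obtain ⟨Ψ', hΨ', ⟨a⟩, ⟨b⟩⟩ := isEquivOver_symm hΨ
  refine ⟨F, BasedFunctor.comp e Ψ', isEquivOver_comp he hΨ', ?_⟩
  have : AlgSt.spMapOfOver (BasedFunctor.comp (BasedFunctor.comp e Ψ') q₁) =
      AlgSt.spMapOfOver (BasedFunctor.comp e q₂) := by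
    apply spMapOfOver_eq_of_iso
    exact whiskerLeftIso (BasedFunctor.comp e Ψ') hq.symm ≪≫
      whiskerLeftIso e (whiskerRightIso b q₂)
  rw [this]
  exact hP

/-- Same, for plain representability. -/
theorem repByAlgSp_transfer {𝒵₁ : BasedCategory.{v₂, u₂} (Over S)} {𝒵₂ : BasedCategory.{v₃, u₃} (Over S)}
    (Ψ : 𝒵₁ ⥤ᵇ 𝒵₂) (hΨ : FibCat.IsEquivOver Ψ) (h : AlgSt.RepByAlgSp 𝒵₂) : AlgSt.RepByAlgSp 𝒵₁ := by
  obtain ⟨F, e, he⟩ := h
  obtain ⟨Ψ', hΨ', _, _⟩ := isEquivOver_symm hΨ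
  exact ⟨F, BasedFunctor.comp e Ψ', isEquivOver_comp he hΨ'⟩

end K901.RepTools
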