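import Groth.Prelude.Def_AlgSt3
import Groth.Agent.CurvSt.K901.FibTools

/-!
Full subcategories of categories over a base cut out by a property of objects stable under pullback:
fibred in groupoids, stack condition.
-/

set_option backward.isDefEq.respectTransparency false
set_option backward.isDefEq.respectTransparency.types false
set_option autoImplicit false

universe v₃ u₃ v₂ u₂ v u

open CategoryTheory CategoryTheory.Limits

namespace K901.SubStack

open K901.FibTools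

section lift

variable {S : AlgebraicGeometry.Scheme.{u}}
variable {𝒳 : BasedCategory.{v₂, u₂} (Over S)} {Q : 𝒳.obj → Prop} {𝒜 : BasedCategory.{v₃, u₃} (Over S)}

/-- Lift a functor over the base to a full subcategory. -/
def liftFun (F : 𝒜 ⥤ᵇ 𝒳) (hF : ∀ a, Q (F.obj a)) : 𝒜 ⥤ᵇ AlgSt.fullSub 𝒳 Q where
  toFunctor := ObjectProperty.lift Q F.toFunctor hF
  w := F.w

/-- Lift a 2-morphism to a full subcategory. -/
def liftNat {F G : 𝒜 ⥤ᵇ AlgSt.fullSub 𝒳 Q}
    (α : BasedFunctor.comp F (AlgSt.subIncl 𝒳 Q) ⟶ BasedFunctor.comp G (AlgSt.subIncl 𝒳 Q)) : F ⟶ G where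
  toNatTrans :=
    { app := fun a => ObjectProperty.homMk (α.toNatTrans.app a)
      naturality := fun a b f => by
        apply ObjectProperty.hom_ext
        exact α.toNatTrans.naturality f }
  isHomLift' := fun a => by
    have h1 : 𝒳.p.IsHomLift (𝟙 (𝒜.p.obj a)) (α.toNatTrans.app a) := α.isHomLift' a
    refine IsHomLift.of_fac _ _ _ (F.w_obj a) (G.w_obj a) ?_
    exact IsHomLift.fac 𝒳.p (𝟙 (𝒜.p.obj a)) (α.toNatTrans.app a)

/-- Lift a 2-isomorphism to a full subcategory. -/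
def liftNatIso {F G : 𝒜 ⥤ᵇ AlgSt.fullSub 𝒳 Q}
    (α : BasedFunctor.comp F (AlgSt.subIncl 𝒳 Q) ≅ BasedFunctor.comp G (AlgSt.subIncl 𝒳 Q)) : F ≅ G where
  hom := liftNat α.hom
  inv := liftNat α.inv
  hom_inv_id := by
    apply BasedNatTrans.homCategory.ext
    ext a
    exact hom_inv_app α a
  inv_hom_id := by
    apply BasedNatTrans.homCategory.ext
    ext a
    exact inv_hom_app α a

end lift

section stack

variable {S : AlgebraicGeometry.Scheme.{u}}
variable {𝒳 : BasedCategory.{v₂, u₂} (Over S)} {Q : 𝒳.obj → Prop}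

instance : (AlgSt.subIncl 𝒳 Q).toFunctor.Full := ObjectProperty.full_ι _
instance : (AlgSt.subIncl 𝒳 Q).toFunctor.Faithful := ObjectProperty.faithful_ι _

/-- A full subcategory closed under sources of morphisms is fibred in groupoids. -/
theorem isFibGrpd_fullSub [h𝒳 : FibCat.IsFibGrpd 𝒳.p] (hQ : ∀ ⦃A B : 𝒳.obj⦄ (_ : A ⟶ B), Q B → Q A) :
    FibCat.IsFibGrpd (AlgSt.fullSub 𝒳 Q).p where
  exists_lift := fun {x} {V} f => by
    obtain ⟨y, φ, hφ⟩ := h𝒳.exists_lift (x := x.obj) f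
    refine ⟨⟨y, hQ φ x.property⟩, ObjectProperty.homMk φ, ?_⟩
    have := hφ
    exact IsHomLift.of_fac _ _ _ (IsHomLift.domain_eq 𝒳.p f φ) (IsHomLift.codomain_eq 𝒳.p f φ)
      (IsHomLift.fac 𝒳.p f φ)
  isStronglyCartesian := fun {y x} φ =>
    { universal_property' := fun {a'} g φ' hφ' => by
        have h1 : 𝒳.p.IsStronglyCartesian (𝒳.p.map φ.hom) φ.hom := h𝒳.isStronglyCartesian φ.hom
        have h2 : 𝒳.p.IsHomLift (g ≫ 𝒳.p.map φ.hom) φ'.hom :=
          IsHomLift.of_fac _ _ _ (IsHomLift.domain_eq (AlgSt.fullSub 𝒳 Q).p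
              (g ≫ (AlgSt.fullSub 𝒳 Q).p.map φ) φ')
            (IsHomLift.codomain_eq (AlgSt.fullSub 𝒳 Q).p
              (g ≫ (AlgSt.fullSub 𝒳 Q).p.map φ) φ') (IsHomLift.fac (AlgSt.fullSub 𝒳 Q).p
              (g ≫ (AlgSt.fullSub 𝒳 Q).p.map φ) φ')
        obtain ⟨χ, ⟨hχ, hχ'⟩, huniq⟩ := h1.universal_property' g φ'.hom
        refine ⟨ObjectProperty.homMk χ, ⟨?_, ?_⟩, ?_⟩
        · exact IsHomLift.of_fac _ _ _ rfl rfl (IsHomLift.fac 𝒳.p g χ)
        · exact ObjectProperty.hom_ext _ hχ'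
        · rintro χ' ⟨hχ'1, hχ'2⟩
          apply ObjectProperty.hom_ext
          refine huniq χ'.hom ⟨?_, ?_⟩
          · exact IsHomLift.of_fac _ _ _ rfl rfl (IsHomLift.fac (AlgSt.fullSub 𝒳 Q).p g χ')
          · exact congrArg (fun t => t.hom) hχ'2 }

/-- The stack condition along a sieve for a full subcategory closed under sources of morphisms and local
for that sieve. -/
theorem isStackFor_fullSub {U : Over S} (R : Sieve U) (h𝒳 : Stk.IsStackFor R 𝒳)
    (hQ : ∀ ⦃A B : 𝒳.obj⦄ (_ : A ⟶ B), Q B → Q A)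
    (hloc : ∀ (A : FibCat.overCat U ⥤ᵇ 𝒳), (∀ (f : (Stk.sieveCat R).obj), Q (A.obj ((Stk.sieveIncl R).obj f))) →
      Q (A.obj (Over.mk (𝟙 U)))) :
    Stk.IsStackFor R (AlgSt.fullSub 𝒳 Q) := by
  have hX : (Stk.resSieve R 𝒳).IsEquivalence := h𝒳
  have hfull : (Stk.resSieve R 𝒳).Full := inferInstance
  have hfaith : (Stk.resSieve R 𝒳).Faithful := inferInstance
  have hess : (Stk.resSieve R 𝒳).EssSurj := inferInstance
  have e1 : (Stk.resSieve R (AlgSt.fullSub 𝒳 Q)).Full := by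
    refine ⟨fun {F G} β => ?_⟩
    let F' := BasedFunctor.comp F (AlgSt.subIncl 𝒳 Q)
    let G' := BasedFunctor.comp G (AlgSt.subIncl 𝒳 Q)
    let β' : (Stk.resSieve R 𝒳).obj F' ⟶ (Stk.resSieve R 𝒳).obj G' :=
      BasedCategory.whiskerRight β (AlgSt.subIncl 𝒳 Q)
    obtain ⟨α, hα⟩ := hfull.map_surjective β'
    refine ⟨liftNat α, ?_⟩
    apply BasedNatTrans.homCategory.ext
    ext a
    exact congrArg (fun (t : (Stk.resSieve R 𝒳).obj F' ⟶ (Stk.resSieve R 𝒳).obj G') => t.toNatTrans.app a) hα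
  have e2 : (Stk.resSieve R (AlgSt.fullSub 𝒳 Q)).Faithful := by
    refine ⟨fun {F G} α β h => ?_⟩
    let F' := BasedFunctor.comp F (AlgSt.subIncl 𝒳 Q)
    let G' := BasedFunctor.comp G (AlgSt.subIncl 𝒳 Q)
    have : (BasedCategory.whiskerRight α (AlgSt.subIncl 𝒳 Q) : F' ⟶ G') =
        BasedCategory.whiskerRight β (AlgSt.subIncl 𝒳 Q) := by
      apply hfaith.map_injective
      apply BasedNatTrans.homCategory.ext
      ext a
      exact congrArg (fun (t : (Stk.resSieve R (AlgSt.fullSub 𝒳 Q)).obj F ⟶ _) => (t.toNatTrans.app a).hom) h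
    apply BasedNatTrans.homCategory.ext
    ext a
    exact congrArg (fun (t : F' ⟶ G') => t.toNatTrans.app a) this
  have e3 : (Stk.resSieve R (AlgSt.fullSub 𝒳 Q)).EssSurj := by
    refine ⟨fun F => ?_⟩
    obtain ⟨G, ⟨e⟩⟩ := hess.mem_essImage (BasedFunctor.comp F (AlgSt.subIncl 𝒳 Q))
    have hG0 : Q (G.obj (Over.mk (𝟙 U))) := by
      apply hloc
      intro f
      exact hQ (e.hom.toNatTrans.app f) (F.obj f).property
    have hG : ∀ a, Q (G.obj a) := fun a => hQ (G.map (Over.homMk a.hom : a ⟶ Over.mk (𝟙 U))) hG0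
    exact ⟨liftFun G hG, ⟨liftNatIso e⟩⟩
  exact { faithful := e2, full := e1, essSurj := e3 }

end stack

end K901.SubStack
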