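import Groth.Prelude.Def_AlgSt3
import Groth.Agent.CurvSt.K901.FibTools
import Groth.Agent.CurvSt.K901.RepTools
import Groth.Agent.CurvSt.K901.SubStack

/-!
Criterion for a full subcategory of an algebraic stack to be an open substack, in any universe pair:
`K901.OpenSub.isOpenSubstack_of_openLocus`.
-/

set_option backward.isDefEq.respectTransparency false
set_option backward.isDefEq.respectTransparency.types false
set_option autoImplicit false

universe v₄ u₄ v₃ u₃ v₂ u₂ v u

open CategoryTheory CategoryTheory.Limits AlgebraicGeometry Opposite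

namespace K901.OpenSub

open K901.FibTools K901.RepTools K901.SubStack

variable {S : Scheme.{u}} {𝒳 : BasedCategory.{v₂, u₂} (Over S)} {Q : 𝒳.obj → Prop}

/-- The property `Q` of objects of `𝒳` has an open locus: for every object `A` there is an open `W` of the base
of `A` such that for every morphism `B ⟶ A`, `Q B` holds iff the base of `B` maps into `W`. -/
def OpenLocus (𝒳 : BasedCategory.{v₂, u₂} (Over S)) (Q : 𝒳.obj → Prop) : Prop :=
  ∀ A : 𝒳.obj, ∃ W : (𝒳.p.obj A).left.Opens, ∀ (B : 𝒳.obj) (φ : B ⟶ A),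
    Q B ↔ Set.range (𝒳.p.map φ).left ⊆ (W : Set (𝒳.p.obj A).left)

theorem OpenLocus.iff_top (h : OpenLocus 𝒳 Q) (A : 𝒳.obj) :
    ∃ W : (𝒳.p.obj A).left.Opens, (Q A ↔ (W : Set (𝒳.p.obj A).left) = Set.univ) ∧
      ∀ (B : 𝒳.obj) (φ : B ⟶ A), Q B ↔ Set.range (𝒳.p.map φ).left ⊆ (W : Set (𝒳.p.obj A).left) := by
  obtain ⟨W, hW⟩ := h A
  refine ⟨W, ?_, hW⟩
  rw [hW A (𝟙 A), CategoryTheory.Functor.map_id]
  constructor
  · intro h
    rw [Set.eq_univ_iff_forall]
    intro x
    exact h ⟨x, rfl⟩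
  · intro h x _
    rw [h]; trivial

theorem OpenLocus.stable (h : OpenLocus 𝒳 Q) ⦃A B : 𝒳.obj⦄ (φ : A ⟶ B) (hB : Q B) : Q A := by
  obtain ⟨W, h1, h2⟩ := h.iff_top B
  rw [h2 A φ, h1.1 hB]
  exact Set.subset_univ _

theorem OpenLocus.isClosedUnderIsomorphisms (h : OpenLocus 𝒳 Q) :
    ObjectProperty.IsClosedUnderIsomorphisms Q :=
  ⟨fun e hX => h.stable e.inv hX⟩

/-- The chart form of the open locus. -/
theorem OpenLocus.chart (h : OpenLocus 𝒳 Q) {U : Over S} (x : FibCat.overCat U ⥤ᵇ 𝒳) :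
    ∃ W : U.left.Opens, ∀ g : (FibCat.overCat U).obj,
      Q (x.obj g) ↔ Set.range g.hom.left ⊆ (W : Set U.left) := by
  obtain ⟨W, hW⟩ := h (x.obj (Over.mk (𝟙 U)))
  have hA : 𝒳.p.obj (x.obj (Over.mk (𝟙 U))) = U := x.w_obj _
  refine ⟨(eqToHom hA.symm).left ⁻¹ᵁ W, fun g => ?_⟩
  let φ : g ⟶ (Over.mk (𝟙 U) : Over U) := Over.homMk g.hom (Category.comp_id _)
  rw [hW _ (x.map φ)]
  have h2 : (FibCat.overCat U).p.IsHomLift g.hom φ := IsHomLift.map (FibCat.overCat U).p φ
  have h3 : 𝒳.p.IsHomLift g.hom (x.map φ) := inferInstance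
  rw [IsHomLift.fac' 𝒳.p g.hom (x.map φ)]
  constructor
  · rintro h _ ⟨t, rfl⟩
    have hg : 𝒳.p.obj (x.obj g) = g.left := x.w_obj g
    have := @h ((eqToHom hA.symm).left (g.hom.left t)) ⟨(eqToHom hg.symm).left t, ?_⟩
    · exact this
    · rw [← Scheme.Hom.comp_apply, ← Scheme.Hom.comp_apply, ← Over.comp_left, ← Over.comp_left]
      simp
  · rintro h _ ⟨t, rfl⟩
    have hg : 𝒳.p.obj (x.obj g) = g.left := x.w_obj g
    have := h ⟨(eqToHom hg).left t, rfl⟩
    simpa using this

/-- An open subscheme of a scheme over `S`, as a scheme over `S`. -/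
abbrev opObj {U : Over S} (W : U.left.Opens) : Over S := Over.mk (W.ι ≫ U.hom)

/-- The inclusion of an open subscheme over `S`. -/
abbrev opIncl {U : Over S} (W : U.left.Opens) : opObj W ⟶ U := Over.homMk W.ι rfl

/-- A morphism over `S` lands in an open iff it factors through it. -/
theorem exists_factor_iff {U T : Over S} (W : U.left.Opens) (g : T ⟶ U) :
    Set.range g.left ⊆ (W : Set U.left) ↔
      ∃ g' : T ⟶ opObj W, g' ≫ (opIncl W) = g := by
  constructor
  · intro h
    refine ⟨Over.homMk (IsOpenImmersion.lift W.ι g.left (by simpa using h)) (by simp), ?_⟩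
    ext1
    simp
  · rintro ⟨g', rfl⟩ _ ⟨t, rfl⟩
    simp

instance {U : Over S} (W : U.left.Opens) : Mono (opIncl W) :=
  ⟨fun a b h => by
    ext1
    have := congrArg CommaMorphism.left h
    simp only [Over.comp_left, Over.homMk_left] at this
    exact (cancel_mono W.ι).1 this⟩

section Diag

/-- The inclusion of the self product of the full subcategory. -/
def inclProd (𝒳 : BasedCategory.{v₂, u₂} (Over S)) (Q : 𝒳.obj → Prop) :
    FibCat.fp (FibCat.toSelf (AlgSt.fullSub 𝒳 Q)) (FibCat.toSelf (AlgSt.fullSub 𝒳 Q)) ⥤ᵇ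
    FibCat.fp (FibCat.toSelf 𝒳) (FibCat.toSelf 𝒳) where
  toFunctor :=
    { obj := fun x => ⟨{ fst := x.obj.fst.obj, snd := x.obj.snd.obj, iso := x.obj.iso }, x.property⟩
      map := fun f => ObjectProperty.homMk
        { fst := f.hom.fst.hom
          snd := f.hom.snd.hom
          w := f.hom.w } }
  w := rfl

instance : (inclProd 𝒳 Q).toFunctor.Full where
  map_surjective := fun f =>
    ⟨ObjectProperty.homMk
      { fst := ObjectProperty.homMk f.hom.fst
        snd := ObjectProperty.homMk f.hom.snd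
        w := f.hom.w }, rfl⟩

instance : (inclProd 𝒳 Q).toFunctor.Faithful where
  map_injective := fun {x y f g} h => by
    apply ObjectProperty.hom_ext
    apply CategoricalPullback.hom_ext
    · exact ObjectProperty.hom_ext _ (congrArg (fun t => t.hom.fst) h)
    · exact ObjectProperty.hom_ext _ (congrArg (fun t => t.hom.snd) h)

/-- Comparison of the base changes of the two diagonals. -/
def diagComp {U : Over S} (y : FibCat.overCat U ⥤ᵇ
      FibCat.fp (FibCat.toSelf (AlgSt.fullSub 𝒳 Q)) (FibCat.toSelf (AlgSt.fullSub 𝒳 Q))) :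
    FibCat.fp y (FibCat.diag (FibCat.toSelf (AlgSt.fullSub 𝒳 Q))) ⥤ᵇ
      FibCat.fp (BasedFunctor.comp y (inclProd 𝒳 Q)) (FibCat.diag (FibCat.toSelf 𝒳)) where
  toFunctor :=
    { obj := fun z => ⟨{ fst := z.obj.fst, snd := z.obj.snd.obj, iso := (inclProd 𝒳 Q).toFunctor.mapIso z.obj.iso },
        by
          have := z.property
          exact (BasedFunctor.isHomLift_iff (inclProd 𝒳 Q) _ _).2 this⟩
      map := fun {z z'} f => ObjectProperty.homMk
        { fst := f.hom.fst, snd := f.hom.snd.hom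
          w := by
            have := congrArg (fun t => (inclProd 𝒳 Q).toFunctor.map t) f.hom.w
            rw [Functor.map_comp, Functor.map_comp] at this
            exact this } }
  w := rfl

instance {U : Over S} (y : FibCat.overCat U ⥤ᵇ
      FibCat.fp (FibCat.toSelf (AlgSt.fullSub 𝒳 Q)) (FibCat.toSelf (AlgSt.fullSub 𝒳 Q))) :
    (diagComp y).toFunctor.Full where
  map_surjective := fun {z z'} f => by
    refine ⟨ObjectProperty.homMk
      { fst := f.hom.fst
        snd := ObjectProperty.homMk f.hom.snd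
        w := ?_ }, rfl⟩
    apply (inclProd 𝒳 Q).toFunctor.map_injective
    rw [Functor.map_comp, Functor.map_comp]
    exact f.hom.w

instance {U : Over S} (y : FibCat.overCat U ⥤ᵇ
      FibCat.fp (FibCat.toSelf (AlgSt.fullSub 𝒳 Q)) (FibCat.toSelf (AlgSt.fullSub 𝒳 Q))) :
    (diagComp y).toFunctor.Faithful where
  map_injective := fun {z z' f g} h => by
    apply ObjectProperty.hom_ext
    apply CategoricalPullback.hom_ext
    · exact congrArg (fun t => t.hom.fst) h
    · exact ObjectProperty.hom_ext _ (congrArg (fun t => t.hom.snd) h)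

theorem isEquivOver_diagComp (hQ : ∀ ⦃A B : 𝒳.obj⦄ (_ : A ⟶ B), Q B → Q A) {U : Over S}
    (y : FibCat.overCat U ⥤ᵇ
      FibCat.fp (FibCat.toSelf (AlgSt.fullSub 𝒳 Q)) (FibCat.toSelf (AlgSt.fullSub 𝒳 Q))) :
    FibCat.IsEquivOver (diagComp y) := by
  apply isEquivOver_of
  intro z
  have hz : Q z.obj.snd := by
    have e := z.obj.iso.inv.hom.fst
    exact hQ e (y.obj z.obj.fst).obj.fst.property
  let u : (AlgSt.fullSub 𝒳 Q).obj := ⟨z.obj.snd, hz⟩
  let i : y.obj z.obj.fst ≅ (FibCat.diag (FibCat.toSelf (AlgSt.fullSub 𝒳 Q))).obj u :=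
    (inclProd 𝒳 Q).toFunctor.preimageIso (show (inclProd 𝒳 Q).obj _ ≅ (inclProd 𝒳 Q).obj _ from z.obj.iso)
  have hi : (inclProd 𝒳 Q).toFunctor.mapIso i = z.obj.iso := by
    ext1
    exact (inclProd 𝒳 Q).toFunctor.map_preimage _
  refine ⟨⟨{ fst := z.obj.fst, snd := u, iso := i }, ?_⟩, ?_, ?_⟩
  · refine (BasedFunctor.isHomLift_iff (inclProd 𝒳 Q) _ _).1 ?_
    have h1 := z.property
    have h2 : (inclProd 𝒳 Q).map i.hom = z.obj.iso.hom := congrArg Iso.hom hi
    rw [h2]
    exact h1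
  · refine ObjectProperty.isoMk _ (CategoricalPullback.mkIso (Iso.refl _) (Iso.refl _) ?_)
    have h2 : (inclProd 𝒳 Q).map i.hom = z.obj.iso.hom := congrArg Iso.hom hi
    change (inclProd 𝒳 Q).map (y.map (𝟙 _)) ≫ z.obj.iso.hom =
      (inclProd 𝒳 Q).map i.hom ≫ (FibCat.diag (FibCat.toSelf 𝒳)).map (𝟙 _)
    rw [h2, y.toFunctor.map_id, (inclProd 𝒳 Q).toFunctor.map_id, (FibCat.diag (FibCat.toSelf 𝒳)).toFunctor.map_id]
    erw [Category.id_comp, Category.comp_id]
  · exact fp_isHomLift_of_fst _ _ (IsHomLift.id rfl)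

theorem repByAlgSp1_diag_fullSub (hQ : ∀ ⦃A B : 𝒳.obj⦄ (_ : A ⟶ B), Q B → Q A)
    (h : AlgSt.RepByAlgSp1 (FibCat.diag (FibCat.toSelf 𝒳))) :
    AlgSt.RepByAlgSp1 (FibCat.diag (FibCat.toSelf (AlgSt.fullSub 𝒳 Q))) := by
  intro U y
  exact repByAlgSp_transfer (diagComp y) (isEquivOver_diagComp hQ y) (h U _)

end Diag

section Atlas

/-- The lift of a chart to the open substack. -/
def liftChart {U : Over S} (x : FibCat.overCat U ⥤ᵇ 𝒳) (W : U.left.Opens)
    (hW : ∀ g : (FibCat.overCat U).obj, Q (x.obj g) ↔ Set.range g.hom.left ⊆ (W : Set U.left)) :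
    FibCat.overCat (opObj W) ⥤ᵇ AlgSt.fullSub 𝒳 Q :=
  liftFun (BasedFunctor.comp (AlgSt.overMap (opIncl W)) x) (fun g => by
    refine (hW ((Over.map (opIncl W)).obj g)).2 ?_
    exact (exists_factor_iff W _).2 ⟨g.hom, rfl⟩)

/-- Comparison of base changes of the chart and of its lift. -/
def chartComp {U T : Over S} (x : FibCat.overCat U ⥤ᵇ 𝒳) (W : U.left.Opens)
    (hW : ∀ g : (FibCat.overCat U).obj, Q (x.obj g) ↔ Set.range g.hom.left ⊆ (W : Set U.left))
    (y : FibCat.overCat T ⥤ᵇ AlgSt.fullSub 𝒳 Q) :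
    FibCat.fp y (liftChart x W hW) ⥤ᵇ FibCat.fp (BasedFunctor.comp y (AlgSt.subIncl 𝒳 Q)) x where
  toFunctor :=
    { obj := fun z => ⟨{ fst := z.obj.fst,
                         snd := (Over.map (opIncl W)).obj z.obj.snd
                         iso := (AlgSt.subIncl 𝒳 Q).toFunctor.mapIso z.obj.iso },
        (BasedFunctor.isHomLift_iff (AlgSt.subIncl 𝒳 Q) _ _).2 z.property⟩
      map := fun {z z'} f => ObjectProperty.homMk
        { fst := f.hom.fst
          snd := (Over.map (opIncl W)).map f.hom.snd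
          w := by
            have := congrArg (fun t => (AlgSt.subIncl 𝒳 Q).toFunctor.map t) f.hom.w
            rw [Functor.map_comp, Functor.map_comp] at this
            exact this }
      map_id := fun z => by
        apply ObjectProperty.hom_ext
        apply CategoricalPullback.hom_ext
        · rfl
        · exact (Over.map _).map_id _
      map_comp := fun f g => by
        apply ObjectProperty.hom_ext
        apply CategoricalPullback.hom_ext
        · rfl
        · exact (Over.map _).map_comp _ _ }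
  w := rfl

theorem full_overMap {U V : Over S} (j : V ⟶ U) [Mono j] {a b : Over V}
    (f : (Over.map j).obj a ⟶ (Over.map j).obj b) : ∃ g : a ⟶ b, (Over.map j).map g = f := by
  refine ⟨Over.homMk f.left ?_, ?_⟩
  · rw [← cancel_mono j]
    have := Over.w f
    simpa using this
  · ext1
    rfl

theorem isEquivOver_chartComp {U T : Over S} (x : FibCat.overCat U ⥤ᵇ 𝒳) (W : U.left.Opens)
    (hQ : ∀ ⦃A B : 𝒳.obj⦄ (_ : A ⟶ B), Q B → Q A)
    (hW : ∀ g : (FibCat.overCat U).obj, Q (x.obj g) ↔ Set.range g.hom.left ⊆ (W : Set U.left))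
    (y : FibCat.overCat T ⥤ᵇ AlgSt.fullSub 𝒳 Q) : FibCat.IsEquivOver (chartComp x W hW y) := by
  have h1 : (chartComp x W hW y).toFunctor.Full := by
    refine ⟨fun {z z'} f => ?_⟩
    obtain ⟨g, hg⟩ := full_overMap (opIncl W) f.hom.snd
    refine ⟨ObjectProperty.homMk
      { fst := f.hom.fst
        snd := g
        w := ?_ }, ?_⟩
    · apply (AlgSt.subIncl 𝒳 Q).toFunctor.map_injective
      have h2 := f.hom.w
      rw [← hg] at h2
      rw [Functor.map_comp, Functor.map_comp]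
      exact h2
    · apply ObjectProperty.hom_ext
      apply CategoricalPullback.hom_ext
      · rfl
      · exact hg
  have h2 : (chartComp x W hW y).toFunctor.Faithful := by
    refine ⟨fun {z z' f g} h => ?_⟩
    apply ObjectProperty.hom_ext
    apply CategoricalPullback.hom_ext
    · exact congrArg (fun t => t.hom.fst) h
    · have h3 : ((chartComp x W hW y).map f).hom.snd.left = ((chartComp x W hW y).map g).hom.snd.left :=
        congrArg (fun t => t.hom.snd.left) h
      exact Over.OverMorphism.ext h3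
  apply isEquivOver_of
  intro z
  have hz : Q (x.obj z.obj.snd) := by
    have e := z.obj.iso.inv
    exact hQ e (y.obj z.obj.fst).property
  obtain ⟨g', hg'⟩ := (exists_factor_iff W z.obj.snd.hom).1 ((hW _).1 hz)
  let a : Over (opObj W) := Over.mk g'
  let i : (Over.map (opIncl W)).obj a ≅ z.obj.snd :=
    Over.isoMk (Iso.refl _) (by simpa [a] using hg'.symm)
  let k : (y.obj z.obj.fst) ≅ (liftChart x W hW).obj a :=
    ObjectProperty.isoMk _ (z.obj.iso ≪≫ (x.toFunctor.mapIso i).symm)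
  refine ⟨⟨{ fst := z.obj.fst, snd := a, iso := k }, ?_⟩, ?_, ?_⟩
  · refine (BasedFunctor.isHomLift_iff (AlgSt.subIncl 𝒳 Q) _ _).1 ?_
    change 𝒳.p.IsHomLift _ (z.obj.iso.hom ≫ x.map i.inv)
    have h3 : 𝒳.p.IsHomLift (𝟙 ((FibCat.overCat T).p.obj z.obj.fst)) z.obj.iso.hom := z.property
    have h4 : (FibCat.overCat U).p.IsHomLift (𝟙 z.obj.snd.left) i.inv :=
      IsHomLift.of_fac _ _ _ rfl rfl (by simp [i]; rfl)
    have h5 : 𝒳.p.IsHomLift (𝟙 z.obj.snd.left) (x.map i.inv) := inferInstance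
    exact IsHomLift.comp_lift_id_right' 𝒳.p _ _ z.obj.snd.left _
  · refine ObjectProperty.isoMk _ (CategoricalPullback.mkIso (Iso.refl _) i ?_)
    change (BasedFunctor.comp y (AlgSt.subIncl 𝒳 Q)).map (𝟙 _) ≫ z.obj.iso.hom =
      (z.obj.iso.hom ≫ x.map i.inv) ≫ x.map i.hom
    rw [Category.assoc, ← x.toFunctor.map_comp, Iso.inv_hom_id, x.toFunctor.map_id,
      (BasedFunctor.comp y (AlgSt.subIncl 𝒳 Q)).toFunctor.map_id]
    erw [Category.comp_id, Category.id_comp]
  · exact fp_isHomLift_of_fst _ _ (IsHomLift.id rfl)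

theorem repByAlgSpWith_liftChart (hQ : ∀ ⦃A B : 𝒳.obj⦄ (_ : A ⟶ B), Q B → Q A) {U : Over S}
    (x : FibCat.overCat U ⥤ᵇ 𝒳) (W : U.left.Opens)
    (hW : ∀ g : (FibCat.overCat U).obj, Q (x.obj g) ↔ Set.range g.hom.left ⊆ (W : Set U.left))
    (P : MorphismProperty (AlgSp.Sp S)) (h : AlgSt.RepByAlgSpWith P x) :
    AlgSt.RepByAlgSpWith P (liftChart x W hW) := by
  intro T y
  exact rep_transfer _ (FibCat.fpFst (BasedFunctor.comp y (AlgSt.subIncl 𝒳 Q)) x) (chartComp x W hW y)
    (isEquivOver_chartComp x W hQ hW y) (Iso.refl _) P (h T _)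

theorem hasAtlas_fullSub (hQ : OpenLocus 𝒳 Q) (P : MorphismProperty (AlgSp.Sp S))
    (h : AlgSt.HasAtlas P 𝒳) : AlgSt.HasAtlas P (AlgSt.fullSub 𝒳 Q) := by
  obtain ⟨U, x, h1, h2⟩ := h
  obtain ⟨W, hW⟩ := hQ.chart x
  exact ⟨opObj W, liftChart x W hW, repByAlgSpWith_liftChart hQ.stable x W hW P h1,
    repByAlgSpWith_liftChart hQ.stable x W hW _ h2⟩

end Atlas

section OpenImm

/-- The comparison functor from the slice over the open locus to the base change of the inclusion. -/
def openComp {U : Over S} (x : FibCat.overCat U ⥤ᵇ 𝒳) (W : U.left.Opens)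
    (hW : ∀ g : (FibCat.overCat U).obj, Q (x.obj g) ↔ Set.range g.hom.left ⊆ (W : Set U.left)) :
    FibCat.overCat (opObj W) ⥤ᵇ FibCat.fp x (AlgSt.subIncl 𝒳 Q) :=
  FibCat.fpLift (AlgSt.overMap (opIncl W)) (liftChart x W hW) (Iso.refl _)

theorem isEquivOver_openComp (hQ : ∀ ⦃A B : 𝒳.obj⦄ (_ : A ⟶ B), Q B → Q A) {U : Over S}
    (x : FibCat.overCat U ⥤ᵇ 𝒳) (W : U.left.Opens)
    (hW : ∀ g : (FibCat.overCat U).obj, Q (x.obj g) ↔ Set.range g.hom.left ⊆ (W : Set U.left)) :
    FibCat.IsEquivOver (openComp x W hW) := by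
  have h1 : (openComp x W hW).toFunctor.Full := by
    refine ⟨fun {z z'} f => ?_⟩
    obtain ⟨g, hg⟩ := full_overMap (opIncl W) f.hom.fst
    refine ⟨g, ?_⟩
    apply ObjectProperty.hom_ext
    apply CategoricalPullback.hom_ext
    · exact hg
    · have h2 := f.hom.w
      change x.map f.hom.fst ≫ 𝟙 _ = 𝟙 _ ≫ f.hom.snd.hom at h2
      rw [Category.id_comp] at h2
      erw [Category.comp_id] at h2
      apply ObjectProperty.hom_ext
      change x.map ((Over.map (opIncl W)).map g) = f.hom.snd.hom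
      rw [hg]
      exact h2
  have h2 : (openComp x W hW).toFunctor.Faithful := by
    refine ⟨fun {z z' f g} h => ?_⟩
    have h3 : ((openComp x W hW).map f).hom.fst.left = ((openComp x W hW).map g).hom.fst.left :=
        congrArg (fun t => t.hom.fst.left) h
    exact Over.OverMorphism.ext h3
  apply isEquivOver_of
  intro z
  have hz : Q (x.obj z.obj.fst) := by
    have e := z.obj.iso.hom
    exact hQ e z.obj.snd.property
  obtain ⟨g', hg'⟩ := (exists_factor_iff W z.obj.fst.hom).1 ((hW _).1 hz)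
  let a : Over (opObj W) := Over.mk g'
  let i : (Over.map (opIncl W)).obj a ≅ z.obj.fst :=
    Over.isoMk (Iso.refl _) (by simpa [a] using hg'.symm)
  let k : (liftChart x W hW).obj a ≅ z.obj.snd :=
    ObjectProperty.isoMk _ ((x.toFunctor.mapIso i) ≪≫ z.obj.iso)
  refine ⟨a, ObjectProperty.isoMk _ (CategoricalPullback.mkIso i k ?_), ?_⟩
  · change x.map i.hom ≫ z.obj.iso.hom = 𝟙 _ ≫ (x.map i.hom ≫ z.obj.iso.hom)
    rw [Category.id_comp]
  · refine fp_isHomLift_of_fst _ _ ?_
    refine IsHomLift.of_fac _ _ _ rfl rfl ?_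
    change 𝟙 _ = eqToHom rfl ≫ 𝟙 z.obj.fst.left ≫ eqToHom rfl
    simp

theorem isOpenImm_subIncl (hQ : OpenLocus 𝒳 Q) : AlgSt.IsOpenImm (AlgSt.subIncl 𝒳 Q) := by
  intro U x
  obtain ⟨W, hW⟩ := hQ.chart x
  refine ⟨⟨(AlgSp.yon S).obj (opObj W), AlgSp.IsAlgSpace.yon_obj _⟩,
    BasedFunctor.comp (AlgSt.toOverCat _) (openComp x W hW),
    isEquivOver_comp (isEquivOver_toOverCat _) (isEquivOver_openComp hQ.stable x W hW), ?_⟩
  have : AlgSt.spMapOfOver (BasedFunctor.comp (BasedFunctor.comp (AlgSt.toOverCat _) (openComp x W hW))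
      (FibCat.fpFst x (AlgSt.subIncl 𝒳 Q))) = (AlgSp.yon S).map (opIncl W) :=
    spMapOfOver_overMap (opIncl W)
  rw [this]
  exact (AlgSp.repWith_yon_map_iff _ _).2 (inferInstanceAs (IsOpenImmersion W.ι))

end OpenImm

/-- The stack condition for a full subcategory with an open locus, for a covering sieve which is jointly
surjective. -/
theorem isStackFor_fullSub_of_openLocus (hQ : OpenLocus 𝒳 Q) {U : Over S} (R : Sieve U)
    (h𝒳 : Stk.IsStackFor R 𝒳)
    (hR : ∀ x : U.left, ∃ (V : Over S) (f : V ⟶ U), R f ∧ x ∈ Set.range f.left) :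
    Stk.IsStackFor R (AlgSt.fullSub 𝒳 Q) := by
  apply isStackFor_fullSub R h𝒳 hQ.stable
  intro A hA
  obtain ⟨W, hW⟩ := hQ.chart A
  rw [hW]
  intro x _
  obtain ⟨V, f, hf, hx⟩ := hR x
  exact (hW _).1 (hA ⟨Over.mk f, hf⟩) hx

/-- Criterion for open substacks: a property of objects with open loci cuts out an open substack, for any
topology whose covering sieves are jointly surjective. -/
theorem isOpenSubstack_of_openLocus (K : Precoverage Scheme.{u})
    (hK : ∀ (U : Over S) (R : Sieve U), R ∈ QuotSh.J K S U →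
      ∀ x : U.left, ∃ (V : Over S) (f : V ⟶ U), R f ∧ x ∈ Set.range f.left)
    (h𝒳 : AlgSt.IsAlgStack K 𝒳) (hQ : OpenLocus 𝒳 Q) : AlgSt.IsOpenSubstack 𝒳 Q K := by
  have := h𝒳.isStack.1
  refine ⟨hQ.isClosedUnderIsomorphisms, ⟨⟨isFibGrpd_fullSub hQ.stable, fun U R hR => ?_⟩,
    repByAlgSp1_diag_fullSub hQ.stable h𝒳.diag, hasAtlas_fullSub hQ _ h𝒳.atlas⟩, isOpenImm_subIncl hQ⟩
  exact isStackFor_fullSub_of_openLocus hQ R (h𝒳.isStack.2 R hR) (hK U R hR)

/-- Covering sieves of the topology induced by a precoverage of jointly surjective families are jointly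
surjective. -/
theorem jointly_surjective_of_le (K : Precoverage Scheme.{u}) (hK : K ≤ Scheme.jointlySurjectivePrecoverage)
    (U : Over S) (R : Sieve U) (hR : R ∈ QuotSh.J K S U) (x : U.left) :
    ∃ (V : Over S) (f : V ⟶ U), R f ∧ x ∈ Set.range f.left := by
  have h1 : Sieve.overEquiv U R ∈ K.toGrothendieck U.left := hR
  have h2 : Sieve.overEquiv U R ∈ Scheme.jointlySurjectivePretopology.toGrothendieck U.left := by
    have h3 : K.toGrothendieck ≤ Scheme.jointlySurjectivePrecoverage.toGrothendieck :=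
      Precoverage.toGrothendieck_mono hK
    have h4 := h3 U.left h1
    rw [← Precoverage.toGrothendieck_toPretopology_eq_toGrothendieck] at h4
    exact h4
  rw [← Scheme.jointlySurjectiveTopology_eq_toGrothendieck_jointlySurjectivePretopology] at h2
  obtain ⟨Y, g, ⟨hg⟩, hx⟩ := (h2 : _) x
  rw [Sieve.overEquiv_iff] at hg
  exact ⟨_, _, hg, hx⟩

theorem jointly_surjective_fppf (U : Over S) (R : Sieve U)
    (hR : R ∈ QuotSh.J Scheme.fppfPrecoverage S U) (x : U.left) :
    ∃ (V : Over S) (f : V ⟶ U), R f ∧ x ∈ Set.range f.left :=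
  jointly_surjective_of_le _ inf_le_left U R hR x

theorem jointly_surjective_etale (U : Over S) (R : Sieve U)
    (hR : R ∈ QuotSh.J Scheme.etalePrecoverage S U) (x : U.left) :
    ∃ (V : Over S) (f : V ⟶ U), R f ∧ x ∈ Set.range f.left :=
  jointly_surjective_of_le _ inf_le_left U R hR x

/-- Criterion for open substacks, fppf topology. -/
theorem isOpenSubstack_fppf (h𝒳 : AlgSt.IsAlgStack Scheme.fppfPrecoverage 𝒳) (hQ : OpenLocus 𝒳 Q) :
    AlgSt.IsOpenSubstack 𝒳 Q Scheme.fppfPrecoverage :=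
  isOpenSubstack_of_openLocus _ jointly_surjective_fppf h𝒳 hQ

/-- Criterion for open substacks, etale topology. -/
theorem isOpenSubstack_etale (h𝒳 : AlgSt.IsAlgStack Scheme.etalePrecoverage 𝒳) (hQ : OpenLocus 𝒳 Q) :
    AlgSt.IsOpenSubstack 𝒳 Q Scheme.etalePrecoverage :=
  isOpenSubstack_of_openLocus _ jointly_surjective_etale h𝒳 hQ

end K901.OpenSub
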