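import Groth.Agent.CurvSt.K901.Loci
import Groth.Agent.CurvSt.K903.NonsmoothFin
import Groth.Agent.AlgSp.K597.EtLoc
import Groth.Agent.AlgSp.K616.DimInv
import Groth.Agent.Flat2C.LqfDense
import Groth.Agent.S0402

/-!
* `K901.Loci.SmoothAt`, `locusProp_smooth`: the smooth locus.
* `K901.Loci.SubDim R d`: the complement of the `R`-locus has relative dimension at most `d` at `x`; `locusProp_subDim`.
* `K901.Loci.finite_nonsmooth_iff`: over a field, for quasi-compact schemes, `SubDim SmoothAt 0` everywhere iff the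
  nonsmooth locus is finite.
-/

set_option autoImplicit false
universe u

open AlgebraicGeometry CategoryTheory CategoryTheory.Limits

namespace K901.Loci

open Groth.Agent

/-- `f` is smooth at `x`. -/
def SmoothAt : PtProp.{u} := fun X _ f x => ∃ U : X.Opens, x ∈ U ∧ Smooth (U.ι ≫ f)

theorem locusProp_smooth : LocusProp.{u} SmoothAt where
  isOpen X Y f _ _ := by
    rw [isOpen_iff_forall_mem_open]
    rintro x ⟨U, hx, hU⟩
    exact ⟨U, fun y hy => ⟨U, hy, hU⟩, U.2, hx⟩
  baseChange X Y X' Y' f f' g' g _ _ hsq x' := by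
    have : LocallyOfFinitePresentation f' := MorphismProperty.of_isPullback hsq inferInstance
    rw [SmoothAt, SmoothAt, ← K903.NonsmoothFin.mem_smoothLocus_iff_exists,
      ← K903.NonsmoothFin.mem_smoothLocus_iff_exists,
      Smoothlim.SmoothLocusBC.mem_smoothLocus_iff_of_isPullback hsq x' (Or.inl (Flat.stalkMap f (g' x')))]
  source U X Y a f _ _ _ u := by
    constructor
    · rintro ⟨V, hu, hV⟩
      let W : X.Opens := ⟨Set.range (V.ι ≫ a), (V.ι ≫ a).isOpenMap.isOpen_range⟩
      let l : V.toScheme ⟶ W.toScheme := IsOpenImmersion.lift W.ι (V.ι ≫ a) (by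
        rw [Scheme.Opens.range_ι]; exact subset_rfl)
      have hl : l ≫ W.ι = V.ι ≫ a := IsOpenImmersion.lift_fac _ _ _
      have h1 : Etale l := by
        have : Etale (l ≫ W.ι) := by rw [hl]; infer_instance
        exact Etale.of_comp l W.ι
      have h2 : Surjective l := ⟨fun y => by
        obtain ⟨z, hz⟩ := y.2
        refine ⟨z, W.ι.isOpenEmbedding.injective ?_⟩
        have h5 : W.ι (l z) = (l ≫ W.ι) z := rfl
        rw [h5, hl, hz]
        rfl⟩
      refine ⟨W, ⟨⟨u, hu⟩, rfl⟩, K597.etLoc_smooth.descend l _ h1 h2 ?_⟩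
      rw [← Category.assoc, hl, Category.assoc]
      exact hV
    · rintro ⟨V, hu, hV⟩
      refine ⟨a ⁻¹ᵁ V, hu, ?_⟩
      have h1 : (a ⁻¹ᵁ V).ι ≫ a ≫ f = (a ∣_ V) ≫ V.ι ≫ f := by
        rw [← Category.assoc, ← Category.assoc, morphismRestrict_ι]
      rw [h1]
      have : Smooth (a ∣_ V) := inferInstance
      infer_instance

/-- The complement of the locus where `R` holds has relative dimension at most `d` at `x`. -/
def SubDim (R : PtProp.{u}) (d : ℕ) : PtProp.{u} := fun X _ f x =>
  ∀ (Z : Scheme.{u}) (ι : Z ⟶ X), IsClosedImmersion ι → Set.range ι = {x | ¬ R f x} →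
    ∀ z, ι z = x → FlatMor.fibreDimAt (ι ≫ f) z ≤ ((d : ℕ) : WithBot ℕ∞)

/-- The local fibre dimension of a closed subscheme only depends on its support. -/
theorem fibreDimAt_eq_of_range_eq {X Y Z₁ Z₂ : Scheme.{u}} (f : X ⟶ Y) (i₁ : Z₁ ⟶ X) (i₂ : Z₂ ⟶ X)
    [IsClosedImmersion i₁] [IsClosedImmersion i₂] (h : Set.range i₁ = Set.range i₂) (z₁ : Z₁) (z₂ : Z₂)
    (hz : i₁ z₁ = i₂ z₂) : FlatMor.fibreDimAt (i₁ ≫ f) z₁ = FlatMor.fibreDimAt (i₂ ≫ f) z₂ := by
  have e1 := i₁.isEmbedding
  have e2 := i₂.isEmbedding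
  let e : Z₁ ≃ₜ Z₂ := (e1.toHomeomorph.trans (Homeomorph.setCongr h)).trans e2.toHomeomorph.symm
  have he : ∀ z, i₂ (e z) = i₁ z := fun z => by
    have h1 : e2.toHomeomorph (e z) = (Homeomorph.setCongr h) (e1.toHomeomorph z) :=
      e2.toHomeomorph.apply_symm_apply _
    exact congrArg Subtype.val h1
  have h2 : z₂ = e z₁ := e2.injective (by rw [he, hz])
  subst h2
  rw [FlatA.FibreDim.fibreDimAt_eq, FlatA.FibreDim.fibreDimAt_eq]
  exact (FlatA.FibreDim.localDim_fibre_eq (j := e) e.isOpenEmbedding (i := id) Function.injective_id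
    (f := fun z => (i₂ ≫ f) z) (g := fun z => (i₁ ≫ f) z) (fun a => by
      change f (i₂ (e a)) = f (i₁ a)
      rw [he]) z₁).symm

/-- One closed subscheme suffices. -/
theorem subDim_iff {R : PtProp.{u}} {d : ℕ} {X Y Z : Scheme.{u}} (f : X ⟶ Y) (i : Z ⟶ X) [IsClosedImmersion i]
    (h : Set.range i = {x | ¬ R f x}) (x : X) :
    SubDim R d f x ↔ ∀ z, i z = x → FlatMor.fibreDimAt (i ≫ f) z ≤ ((d : ℕ) : WithBot ℕ∞) := by
  constructor
  · intro H z hz
    exact H Z i inferInstance h z hz
  · intro H Z' i' _ h' z' hz'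
    have h1 : x ∈ Set.range i := by rw [h, ← h']; exact ⟨z', hz'⟩
    obtain ⟨z, hz⟩ := h1
    rw [fibreDimAt_eq_of_range_eq f i' i (h'.trans h.symm) z' z (hz'.trans hz.symm)]
    exact H z hz

/-- The reduced closed subscheme on the complement of the `R`-locus. -/
theorem exists_closed {R : PtProp.{u}} (hR : LocusProp R) {X Y : Scheme.{u}} (f : X ⟶ Y) [Flat f]
    [LocallyOfFinitePresentation f] :
    ∃ (Z : Scheme.{u}) (i : Z ⟶ X), IsClosedImmersion i ∧ Set.range i = {x | ¬ R f x} := by
  have hZ : IsClosed {x : X | ¬ R f x} := (hR.isOpen f).isClosed_compl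
  let I := Scheme.IdealSheafData.vanishingIdeal (⟨_, hZ⟩ : TopologicalSpace.Closeds X)
  have hI : (I.support : Set X) = {x : X | ¬ R f x} := Scheme.IdealSheafData.coe_support_vanishingIdeal _
  exact ⟨I.subscheme, I.subschemeι, inferInstance, by rw [Scheme.IdealSheafData.range_subschemeι, hI]⟩

theorem locusProp_subDim {R : PtProp.{u}} (hR : LocusProp R) (d : ℕ) : LocusProp.{u} (SubDim R d) where
  isOpen X Y f _ _ := by
    obtain ⟨Z, i, hi, h⟩ := exists_closed hR f
    have h1 := S0402.result (i ≫ f) d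
    have h2 : {x : X | SubDim R d f x} = (i '' {z | FlatMor.fibreDimAt (i ≫ f) z ≤ ((d : ℕ) : WithBot ℕ∞)}ᶜ)ᶜ := by
      ext x
      change SubDim R d f x ↔ _
      rw [subDim_iff f i h]
      simp only [Set.mem_compl_iff, Set.mem_image, not_exists, not_and]
      constructor
      · intro H z hz hzx
        exact hz (H z hzx)
      · intro H z hz
        by_contra hc
        exact H z hc hz
    rw [h2]
    exact (i.isClosedEmbedding.isClosedMap _ h1.isClosed_compl).isOpen_compl
  baseChange X Y X' Y' f f' g' g _ _ hsq x' := by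
    obtain ⟨Z, i, hi, h⟩ := exists_closed hR f
    have h1 : IsClosedImmersion (pullback.snd i g') := inferInstance
    have h2 : Set.range (pullback.snd i g') = {x | ¬ R f' x} := by
      rw [Scheme.Pullback.range_snd, h]
      ext y
      exact not_congr (hR.baseChange f f' g' g hsq y).symm
    have sq : IsPullback (pullback.fst i g') (pullback.snd i g' ≫ f') (i ≫ f) g :=
      ((IsPullback.of_hasPullback i g').flip.paste_horiz hsq.flip).flip
    rw [subDim_iff f i h, subDim_iff f' _ h2]
    constructor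
    · intro H z hz
      obtain ⟨w, hw1, hw2⟩ := Scheme.Pullback.exists_preimage_pullback (f := i) (g := g') z x' hz
      have h3 := H w hw2
      rw [Ega4fib.H172.FibDimBC.fibreDimAt_of_isPullback sq w, hw1] at h3
      exact h3
    · intro H w hw
      rw [Ega4fib.H172.FibDimBC.fibreDimAt_of_isPullback sq w]
      refine H _ ?_
      rw [← Scheme.Hom.comp_apply, pullback.condition, Scheme.Hom.comp_apply, hw]
  source U X Y a f _ _ _ u := by
    obtain ⟨Z, i, hi, h⟩ := exists_closed hR f
    have h2 : Set.range (pullback.snd i a) = {x | ¬ R (a ≫ f) x} := by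
      rw [Scheme.Pullback.range_snd, h]
      ext y
      exact not_congr (hR.source a f y).symm
    have e : pullback.snd i a ≫ a ≫ f = pullback.fst i a ≫ i ≫ f := by
      rw [← Category.assoc, ← pullback.condition, Category.assoc]
    rw [subDim_iff f i h, subDim_iff (a ≫ f) _ h2]
    constructor
    · intro H z hz
      obtain ⟨w, hw1, hw2⟩ := Scheme.Pullback.exists_preimage_pullback (f := i) (g := a) z u hz
      have h3 := H w hw2
      rw [e, K616.DimInv.fibreDimAt_comp_of_etale, hw1] at h3
      exact h3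
    · intro H w hw
      rw [e, K616.DimInv.fibreDimAt_comp_of_etale]
      refine H _ ?_
      rw [← Scheme.Hom.comp_apply, pullback.condition, Scheme.Hom.comp_apply, hw]

/-- Finiteness of the complement of the `R`-locus over a field. -/
theorem finite_iff_subDim {R : PtProp.{u}} (hR : LocusProp R) {k : Type u} [Field k] {X : Scheme.{u}}
    (q : X ⟶ Spec (CommRingCat.of k)) [LocallyOfFinitePresentation q] [QuasiCompact q] :
    {x : X | ¬ R q x}.Finite ↔ ∀ x, SubDim R 0 q x := by
  obtain ⟨Z, i, hi, h⟩ := exists_closed hR q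
  constructor
  · intro hfin x
    rw [subDim_iff q i h]
    intro z _
    have hsf : Finite Z := by
      have : Set.Finite (Set.range i) := by rw [h]; exact hfin
      exact Set.finite_range_iff (f := i) (i.isEmbedding.injective) |>.1 this
    have hlf : LocallyQuasiFinite (i ≫ q) :=
      LocallyQuasiFinite.of_finite_preimage_singleton _ (fun x => Set.toFinite _)
    exact Flat2C.LqfDense.fibreDimAt_le_zero_of_quasiFiniteAt (i ≫ q) z ((i ≫ q).quasiFiniteAt z)
  · intro H
    have h1 : LocallyQuasiFinite (i ≫ q) := Flat2C.LqfDense.locallyQuasiFinite_of_fibreDimAt _ fun z =>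
      (subDim_iff q i h (i z)).1 (H _) z rfl
    have h2 : (Set.univ : Set Z).Finite := by
      have := Scheme.Hom.finite_preimage (i ≫ q) (s := Set.univ) (Set.toFinite _)
      simpa using this
    rw [← h, ← Set.image_univ]
    exact h2.image _

end K901.Loci
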