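import Groth.Agent.CurvSt.K901.SchLoc
import Groth.Agent.CurvSt.K901.LociSub
import Groth.Agent.CurvSt.K899.NodalLoc
import Groth.Agent.Pi1.H536.GenusFam
import Groth.Agent.CurvesB.NodalFibreH
import Groth.Agent.CurvesC.TailMain
import Groth.Agent.Models.H112.NodalFam
import Groth.Agent.Fdesc.GeomAlgClosed
import Groth.Prelude.Def_StMap

/-!
Openness of the prestable locus of a pointed family of schemes.

* `K901.SchPre.NodalAt`, `locusProp_nodal`, `isNodalFamily_iff`, `nodal_field_iff`.
* `isClosed_coincide`, `comp_eq_of_apply_eq`: coincidence of two sections.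
* `prestable_iff`: a geometric fibre is prestable of genus `g` iff its image lies in explicit sets.
* `isOpen_prestable`.
-/

set_option autoImplicit false

universe u

open CategoryTheory CategoryTheory.Limits AlgebraicGeometry Opposite

namespace K901.SchPre

open CurvSt AlgSp K901.GeomFibAt K901.GeomLoc K901.EtSch K901.Loci K901.SchLoc
open Groth.Agent

/-- `x` lies in the nodal locus. -/
abbrev NodalAt : PtProp.{u} := fun _ _ f x => x ∈ S1591.nodalLocus f

theorem locusProp_nodal : LocusProp.{u} NodalAt where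
  isOpen X Y f _ _ := (S1591.nodalLocus f).isOpen
  baseChange X Y X' Y' f f' g' g _ _ h x' := by
    rw [NodalAt, S1591.nodalLocus_of_isPullback h]
    rfl
  source U X Y a f _ _ _ u := by
    constructor
    · intro h
      let V := S1591.nodalLocus (a ≫ f)
      let b : V.toScheme ⟶ X := V.ι ≫ a
      let W : X.Opens := ⟨Set.range b, b.isOpenMap.isOpen_range⟩
      let e : V.toScheme ⟶ W := IsOpenImmersion.lift W.ι b (by rw [Scheme.Opens.range_ι]; exact subset_rfl)
      have he' : e ≫ W.ι = b := IsOpenImmersion.lift_fac _ _ _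
      have he : Etale e := by
        have : Etale (e ≫ W.ι) := by rw [he']; infer_instance
        exact Etale.of_comp e W.ι
      have hs : Surjective e := by
        constructor
        rintro ⟨w, v, rfl⟩
        refine ⟨v, ?_⟩
        apply W.ι.isOpenEmbedding.injective
        rw [← Scheme.Hom.comp_apply, he']
        rfl
      have h1 : Curv2.IsNodalFamily (W.ι ≫ f) := by
        refine K899.NodalLoc.nodal_of_cover e (W.ι ≫ f) he hs ?_
        rw [reassoc_of% he']
        have h2 := S1591.isNodalFamily_nodalLocus (a ≫ f)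
        rwa [← Category.assoc] at h2
      refine S1591.le_nodalLocus f W h1 ?_
      exact ⟨⟨u, h⟩, rfl⟩
    · intro h
      let N := S1591.nodalLocus f
      have h1 : Curv2.IsNodalFamily ((a ∣_ N) ≫ N.ι ≫ f) :=
        S1592.result (N.ι ≫ f) (S1591.isNodalFamily_nodalLocus f) (a ∣_ N)
      have h2 : (a ∣_ N) ≫ N.ι ≫ f = (a ⁻¹ᵁ N).ι ≫ a ≫ f := by
        rw [← Category.assoc, morphismRestrict_ι, Category.assoc]
      rw [h2] at h1
      exact S1591.le_nodalLocus (a ≫ f) _ h1 h

theorem isNodalFamily_iff {X Y : Scheme.{u}} (f : X ⟶ Y) : Curv2.IsNodalFamily f ↔ ∀ x, NodalAt f x := by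
  constructor
  · intro h x
    refine S1591.le_nodalLocus f ⊤ ?_ trivial
    exact S1592.result f h _
  · intro h
    have h1 : S1591.nodalLocus f = ⊤ := by
      ext x
      exact ⟨fun _ => trivial, fun _ => h x⟩
    have h2 := S1591.isNodalFamily_nodalLocus f
    rw [h1] at h2
    exact K899.NodalLoc.nodal_of_cover (⊤ : X.Opens).ι f inferInstance
      ⟨fun x => ⟨⟨x, trivial⟩, rfl⟩⟩ h2

/-- Nodal of pure dimension one over a field. -/
theorem nodal_field_iff {K : Type u} [Field K] {X : Scheme.{u}} (q : X ⟶ Spec (CommRingCat.of K))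
    [LocallyOfFinitePresentation q] :
    (@Curv2.AtWorstNodal K _ X ⟨q⟩ ∧ ∀ Z ∈ irreducibleComponents (↥X : Type u), topologicalKrullDim ↥Z = 1) ↔
      Curv2.IsNodalFamily q := by
  constructor
  · rintro ⟨h1, h2⟩
    refine ⟨inferInstance, inferInstance, fun s => ?_⟩
    exact Models.H112.NodalFam.isNodalFibre_of_isPullback q K (𝟙 _) (𝟙 _) q
      (IsPullback.of_horiz_isIso ⟨by simp⟩) h2 h1 s ⟨s, rfl⟩
  · rintro ⟨-, -, h⟩
    let S := Spec (CommRingCat.of K)
    let s : S := IsLocalRing.closedPoint K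
    obtain ⟨h1, h2⟩ := h s
    let a : CommRingCat.of K ⟶ S.residueField s := Spec.preimage (S.fromSpecResidueField s)
    have ha : Spec.map a = S.fromSpecResidueField s := Spec.map_preimage _
    let _ : Algebra K (S.residueField s) := a.hom.toAlgebra
    have hpb0 : IsPullback (q.fiberι s) (q.fiberToSpecResidueField s) q (S.fromSpecResidueField s) :=
      IsPullback.of_hasPullback _ _
    rw [← ha] at hpb0
    have hpb : IsPullback (q.fiberι s) (q.fiberToSpecResidueField s) q
        (Spec.map (CommRingCat.ofHom (algebraMap K (S.residueField s)))) := hpb0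
    have hd := CurvesB.FibreBC.dimOne_of_isPullback _ _ _ _ hpb h1
    refine ⟨?_, hd⟩
    let i1 : X.Over (Spec (CommRingCat.of K)) := ⟨q⟩
    let i2 : (q.fiber s).Over (Spec (CommRingCat.of (S.residueField s))) := ⟨q.fiberToSpecResidueField s⟩
    exact @CurvesB.NodalDescent.atWorstNodal_of_isPullback K (S.residueField s) _ _ _ _ _ i1 i2 _ hpb
      (by assumption) hd h2

section Sections

variable {C T : Scheme.{u}} {f : C ⟶ T} [IsSeparated f] {σ τ : T ⟶ C} (hσ : σ ≫ f = 𝟙 T) (hτ : τ ≫ f = 𝟙 T)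

include hσ in
theorem isClosedImmersion_sect : IsClosedImmersion σ := by
  have : IsClosedImmersion (σ ≫ f) := by rw [hσ]; infer_instance
  exact IsClosedImmersion.of_comp σ f

include hσ hτ

omit [IsSeparated f] in
theorem fst_eq_snd : pullback.fst σ τ = pullback.snd σ τ := by
  have h := pullback.condition (f := σ) (g := τ)
  have h2 := congrArg (· ≫ f) h
  simp only [Category.assoc, hσ, hτ, Category.comp_id] at h2
  exact h2

theorem isClosed_coincide : IsClosed {s : T | σ s = τ s} := by
  have h1 := isClosedImmersion_sect hσ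
  have h2 : IsClosedImmersion (pullback.snd σ τ) := MorphismProperty.pullback_snd _ _ h1
  have h3 : {s : T | σ s = τ s} = Set.range (pullback.snd σ τ) := by
    ext s
    constructor
    · intro hs
      obtain ⟨z, -, hz⟩ := Scheme.Pullback.exists_preimage_pullback (f := σ) (g := τ) s s hs
      exact ⟨z, hz⟩
    · rintro ⟨z, rfl⟩
      have h4 := pullback.condition (f := σ) (g := τ)
      rw [fst_eq_snd hσ hτ] at h4
      change σ (pullback.snd σ τ z) = τ (pullback.snd σ τ z)
      rw [← Scheme.Hom.comp_apply, h4, Scheme.Hom.comp_apply]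
  rw [h3]
  exact (pullback.snd σ τ).isClosedEmbedding.isClosed_range

theorem comp_eq_of_apply_eq {K : Type u} [Field K] (t : Spec (CommRingCat.of K) ⟶ T)
    (h : σ (t.base (IsLocalRing.closedPoint K)) = τ (t.base (IsLocalRing.closedPoint K))) : t ≫ σ = t ≫ τ := by
  have h1 := isClosedImmersion_sect hσ
  have h2 : IsClosedImmersion (pullback.snd σ τ) := MorphismProperty.pullback_snd _ _ h1
  obtain ⟨z, -, hz⟩ := Scheme.Pullback.exists_preimage_pullback (f := σ) (g := τ) _ _ h
  let j := pullback.snd (pullback.snd σ τ) t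
  have h3 : IsClosedImmersion j := MorphismProperty.pullback_snd _ _ h2
  obtain ⟨w, -, -⟩ := Scheme.Pullback.exists_preimage_pullback (f := pullback.snd σ τ) (g := t) z
    (IsLocalRing.closedPoint K) hz
  have h4 : Surjective j := ⟨fun x => ⟨w, Subsingleton.elim _ _⟩⟩
  have h5 : IsIso j := isIso_of_isClosedImmersion_of_surjective j
  have h6 : t = inv j ≫ pullback.fst (pullback.snd σ τ) t ≫ pullback.snd σ τ := by
    rw [IsIso.eq_inv_comp]
    exact pullback.condition.symm
  have h7 := pullback.condition (f := σ) (g := τ)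
  rw [fst_eq_snd hσ hτ] at h7
  rw [h6, Category.assoc, Category.assoc, h7, Category.assoc, Category.assoc]

end Sections

section Prestable

variable {n : ℕ}

/-- The condition "prestable of genus `g`" on geometric fibres. -/
abbrev PreProp (n g : ℕ) : FibProp.{u} n := fun Ω _ _ X' q m => StMap.IsPrestablePtd Ω X' q g m

/-- The condition "nodal of pure dimension one" on geometric fibres. -/
abbrev NodProp (n : ℕ) : FibProp.{u} n := fun Ω _ _ X' q _ =>
  @Curv2.AtWorstNodal Ω _ X' ⟨q⟩ ∧ ∀ Z ∈ irreducibleComponents (↥X' : Type u), topologicalKrullDim ↥Z = 1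

/-- Prestability in terms of pointwise conditions. -/
theorem prestable_field_iff (g : ℕ) {Ω : Type u} [Field Ω] [IsAlgClosed Ω] {X : Scheme.{u}}
    (q : X ⟶ Spec (CommRingCat.of Ω)) [IsProper q] (m : Fin n → X) (hm : ∀ i, IsClosed ({m i} : Set X)) :
    StMap.IsPrestablePtd Ω X q g m ↔ (∀ x, NodalAt q x) ∧ ConnectedSpace X ∧ @Curv2.genus Ω _ X ⟨q⟩ = g ∧
      Function.Injective m ∧ ∀ i, SmoothAt q (m i) := by
  have hlfp : LocallyOfFinitePresentation q := LocallyOfFinitePresentation.iff_locallyOfFiniteType.2 inferInstance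
  have hN : IsNoetherian X := CurvesB.NodalFibreH.isNoetherian_of_isProper Ω X q
  rw [← isNodalFamily_iff, ← nodal_field_iff]
  constructor
  · rintro ⟨-, h2, h3, ⟨h4, h5⟩, h6, h7⟩
    exact ⟨⟨h4, fun Z hZ => CurvesC.TailMain.pure_of_connected X h3 Z hZ⟩, h2, h5, h6, fun i => (h7 i).2⟩
  · rintro ⟨⟨h4, hZ⟩, h2, h5, h6, h7⟩
    exact ⟨inferInstance, h2, CurvesB.NodalFibreH.topologicalKrullDim_eq_one_of_components hZ, ⟨h4, h5⟩, h6,
      fun i => ⟨hm i, h7 i⟩⟩

variable {C T : Scheme.{u}} (f : C ⟶ T) (σ : Fin n → (T ⟶ C)) (hσ : ∀ i, σ i ≫ f = 𝟙 T)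

theorem isClosed_markedPt [IsProper f] {Ω : Type u} [Field Ω] {t : Spec (CommRingCat.of Ω) ⟶ T} {X' : Scheme.{u}}
    {i : X' ⟶ C} {q : X' ⟶ Spec (CommRingCat.of Ω)} (hP : IsPullback i q f t) (j : Fin n) :
    IsClosed ({markedPt σ hσ hP j} : Set X') := by
  have hq : IsProper q := MorphismProperty.of_isPullback hP inferInstance
  let x := hP.lift (t ≫ σ j) (𝟙 _) (by rw [Category.assoc, hσ, Category.comp_id, Category.id_comp])
  have hx : x ≫ q = 𝟙 _ := hP.lift_snd _ _ _
  have hc : IsClosedImmersion x := by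
    have : IsClosedImmersion (x ≫ q) := by rw [hx]; infer_instance
    exact IsClosedImmersion.of_comp x q
  have h1 : ({markedPt σ hσ hP j} : Set X') = Set.range x := by
    ext y
    constructor
    · rintro rfl
      exact ⟨IsLocalRing.closedPoint Ω, rfl⟩
    · rintro ⟨z, rfl⟩
      have : z = IsLocalRing.closedPoint Ω := Subsingleton.elim _ _
      rw [this]
      rfl
  rw [h1]
  exact x.isClosedEmbedding.isClosed_range

theorem apply_markedPt {Ω : Type u} [Field Ω] {t : Spec (CommRingCat.of Ω) ⟶ T} {X' : Scheme.{u}}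
    {i : X' ⟶ C} {q : X' ⟶ Spec (CommRingCat.of Ω)} (hP : IsPullback i q f t) (j : Fin n) :
    i (markedPt σ hσ hP j) = σ j (t.base (IsLocalRing.closedPoint Ω)) := by
  have h1 : hP.lift (t ≫ σ j) (𝟙 _) (by rw [Category.assoc, hσ, Category.comp_id, Category.id_comp]) ≫ i =
      t ≫ σ j := hP.lift_fst _ _ _
  have h2 := congrArg (fun h : Spec (CommRingCat.of Ω) ⟶ C => h (IsLocalRing.closedPoint Ω)) h1
  exact h2

theorem injective_markedPt_iff [IsSeparated f] {Ω : Type u} [Field Ω] {t : Spec (CommRingCat.of Ω) ⟶ T}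
    {X' : Scheme.{u}} {i : X' ⟶ C} {q : X' ⟶ Spec (CommRingCat.of Ω)} (hP : IsPullback i q f t) :
    Function.Injective (markedPt σ hσ hP) ↔
      Function.Injective (fun j => σ j (t.base (IsLocalRing.closedPoint Ω))) := by
  constructor
  · intro h a b hab
    apply h
    have h1 := comp_eq_of_apply_eq (hσ a) (hσ b) t hab
    have h2 := markedPt_eq_of f σ hσ hP b
      (hP.lift (t ≫ σ a) (𝟙 _) (by rw [Category.assoc, hσ, Category.comp_id, Category.id_comp]))
      ((hP.lift_fst _ _ _).trans h1) (hP.lift_snd _ _ _)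
    rw [h2]
    rfl
  · intro h a b hab
    apply h
    have h1 := apply_markedPt f σ hσ hP a
    have h2 := apply_markedPt f σ hσ hP b
    change σ a (t.base (IsLocalRing.closedPoint Ω)) = σ b (t.base (IsLocalRing.closedPoint Ω))
    rw [← h1, ← h2, hab]

include hσ in
theorem isOpen_injective [IsSeparated f] : IsOpen {s : T | Function.Injective fun j => σ j s} := by
  have h1 : {s : T | Function.Injective fun j => σ j s} = ⋂ (i : Fin n) (j : Fin n) (_ : i ≠ j), {s | σ i s = σ j s}ᶜ := by
    ext s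
    simp only [Set.mem_ofPred_eq, Set.mem_iInter, Set.mem_compl_iff]
    exact ⟨fun h i j hij h' => hij (h h'), fun h i j h' => by_contra fun hij => h i j hij h'⟩
  rw [h1]
  refine isOpen_iInter_of_finite fun i => isOpen_iInter_of_finite fun j => isOpen_iInter_of_finite fun _ => ?_
  exact (isClosed_coincide (hσ i) (hσ j)).isOpen_compl

theorem isOpen_smoothAt [Flat f] [LocallyOfFinitePresentation f] : IsOpen {s : T | ∀ j, SmoothAt f (σ j s)} := by
  have h1 : {s : T | ∀ j, SmoothAt f (σ j s)} = ⋂ j, (σ j) ⁻¹' {x | SmoothAt f x} := by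
    ext s
    simp
  rw [h1]
  exact isOpen_iInter_of_finite fun j => (locusProp_smooth.isOpen f).preimage (σ j).continuous

/-- The points over which the fibre is nodal. -/
def NodSet : Set T := {s | ∀ x, f x = s → NodalAt f x}

/-- The points over which the fibre is nodal and geometrically connected. -/
def ConSet : Set T := NodSet f ∩ {s | MoreMor.nGeomConnComp f s = 1}

/-- The points over which the fibre is nodal, geometrically connected, of genus `g`. -/
def GenSet (g : ℕ) : Set T := ConSet f ∩ {s | PerfAux.eulerChar f (Coh.structureModule C) s = 1 - (g : ℤ)}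

variable [Flat f] [IsProper f] [LocallyOfFinitePresentation f]

theorem isOpen_nodSet : IsOpen (NodSet f) := isOpen_fib locusProp_nodal f

omit [IsProper f] in
theorem nodSet_iff {Ω : Type u} [Field Ω] {t : Spec (CommRingCat.of Ω) ⟶ T}
    {X' : Scheme.{u}} {i : X' ⟶ C} {q : X' ⟶ Spec (CommRingCat.of Ω)} (hP : IsPullback i q f t) :
    (∀ x, NodalAt q x) ↔ t.base (IsLocalRing.closedPoint Ω) ∈ NodSet f :=
  forall_iff_of_isPullback locusProp_nodal hP

theorem fibre_of_mem_nodSet {s : T} (hs : s ∈ NodSet f) : Curv2.IsNodalFamily (f.fiberToSpecResidueField s) := by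
  rw [isNodalFamily_iff]
  have hpb : IsPullback (f.fiberι s) (f.fiberToSpecResidueField s) f (T.fromSpecResidueField s) :=
    IsPullback.of_hasPullback _ _
  refine (nodSet_iff f (Ω := T.residueField s) (t := T.fromSpecResidueField s) hpb).2 ?_
  rw [Scheme.fromSpecResidueField_apply]
  exact hs

theorem geometricallyReduced_of_mem_nodSet {s : T} (hs : s ∈ NodSet f) :
    GeometricallyReduced (f.fiberToSpecResidueField s) := by
  have h1 := fibre_of_mem_nodSet f hs
  have hlfp : LocallyOfFinitePresentation (f.fiberToSpecResidueField s) :=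
    MorphismProperty.pullback_snd _ _ inferInstance
  have h2 := (nodal_field_iff (K := T.residueField s) (f.fiberToSpecResidueField s)).2 h1
  let i1 : (f.fiber s).Over (Spec (CommRingCat.of (T.residueField s))) := ⟨f.fiberToSpecResidueField s⟩
  have i2 : LocallyOfFiniteType (f.fiber s ↘ Spec (CommRingCat.of (T.residueField s))) :=
    inferInstanceAs (LocallyOfFiniteType (f.fiberToSpecResidueField s))
  exact (S1589.result (T.residueField s) (f.fiber s) h2.2 h2.1).2

theorem isOpen_conSet : IsOpen (ConSet f) :=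
  isOpen_conn f (isOpen_nodSet f) fun _ hs => geometricallyReduced_of_mem_nodSet f hs

theorem isOpen_genSet (g : ℕ) : IsOpen (GenSet f g) := by
  have h1 := PerfB.Semi.isLocallyConstant_euler f (Coh.structureModule C)
    (PerfB.StructFlat.isFP_structure) (PerfB.StructFlat.isFlatOver_structure f)
  exact (isOpen_conSet f).inter (h1.isOpen_fiber (1 - (g : ℤ)))

theorem conSet_iff {Ω : Type u} [Field Ω] [IsAlgClosed Ω] {t : Spec (CommRingCat.of Ω) ⟶ T}
    {X' : Scheme.{u}} {i : X' ⟶ C} {q : X' ⟶ Spec (CommRingCat.of Ω)} (hP : IsPullback i q f t) :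
    ((∀ x, NodalAt q x) ∧ ConnectedSpace X') ↔ t.base (IsLocalRing.closedPoint Ω) ∈ ConSet f :=
  and_congr (nodSet_iff f hP) (connectedSpace_iff hP)

omit [Flat f] in
theorem eulerChar_eq {Ω : Type u} [Field Ω] [IsAlgClosed Ω] {t : Spec (CommRingCat.of Ω) ⟶ T}
    {X' : Scheme.{u}} {i : X' ⟶ C} {q : X' ⟶ Spec (CommRingCat.of Ω)} (hP : IsPullback i q f t)
    (h1 : ∀ x, NodalAt q x) (h2 : ConnectedSpace X') :
    PerfAux.eulerChar f (Coh.structureModule C) (t.base (IsLocalRing.closedPoint Ω)) =
      1 - (@Curv2.genus Ω _ X' ⟨q⟩ : ℤ) := by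
  let i1 : X'.Over (Spec (CommRingCat.of Ω)) := ⟨q⟩
  have hq : IsProper (X' ↘ Spec (CommRingCat.of Ω)) := MorphismProperty.of_isPullback hP inferInstance
  have hlfp : LocallyOfFinitePresentation q := MorphismProperty.of_isPullback hP inferInstance
  have h3 := (nodal_field_iff (K := Ω) q).2 ((isNodalFamily_iff q).2 h1)
  have h4 : GeometricallyConnected (X' ↘ Spec (CommRingCat.of Ω)) :=
    Fdesc.GeomAlgClosed.geometricallyConnected_of_connectedSpace _
  obtain ⟨h5, h6⟩ := CurvesB.NodalFibreH.nodal_cohomology Ω X' h3.2 h3.1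
  have b := fun j => Groth.Agent.Pi1.H536.GenusFam.finrank_eq_betti f Ω t (IsLocalRing.closedPoint Ω) i hP j
  have key : ∀ (b : ℕ → ℕ), b 0 = 1 → (∀ i, 2 ≤ i → b i = 0) →
      (finsum fun i : ℕ => (-1 : ℤ) ^ i * (b i : ℤ)) = 1 - b 1 := by
    intro b hb0 hb2
    rw [finsum_eq_sum_of_support_subset (s := Finset.range 2)]
    · simp [Finset.sum_range_succ, hb0]
      ring
    · intro i hi
      simp only [Function.mem_support, ne_eq, mul_eq_zero, not_or] at hi
      by_contra hcon
      simp only [Finset.coe_range, Set.mem_Iio, not_lt] at hcon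
      exact hi.2 (by rw [hb2 i hcon]; rfl)
  unfold PerfAux.eulerChar
  rw [key (fun j => PerfAux.betti f (Coh.structureModule C) (t.base (IsLocalRing.closedPoint Ω)) j)
    ((b 0).symm.trans h5) fun j hj => by
      have := h6 j hj
      exact (b j).symm.trans Module.finrank_zero_of_subsingleton]
  congr 2
  exact (b 1).symm

/-- The prestable locus. -/
theorem isPrestablePtd_iff (g : ℕ) {Ω : Type u} [Field Ω] [IsAlgClosed Ω] {t : Spec (CommRingCat.of Ω) ⟶ T}
    {X' : Scheme.{u}} {i : X' ⟶ C} {q : X' ⟶ Spec (CommRingCat.of Ω)} (hP : IsPullback i q f t) :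
    StMap.IsPrestablePtd Ω X' q g (markedPt σ hσ hP) ↔ t.base (IsLocalRing.closedPoint Ω) ∈
      GenSet f g ∩ {s : T | Function.Injective fun j => σ j s} ∩ {s : T | ∀ j, SmoothAt f (σ j s)} := by
  have hq : IsProper q := MorphismProperty.of_isPullback hP inferInstance
  rw [prestable_field_iff g q _ (isClosed_markedPt f σ hσ hP), injective_markedPt_iff]
  have h1 : ∀ j, SmoothAt q (markedPt σ hσ hP j) ↔ SmoothAt f (σ j (t.base (IsLocalRing.closedPoint Ω))) := by
    intro j
    rw [locusProp_smooth.baseChange f q i t hP, apply_markedPt]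
  constructor
  · rintro ⟨h2, h3, h4, h5, h6⟩
    refine ⟨⟨⟨(conSet_iff f hP).1 ⟨h2, h3⟩, ?_⟩, h5⟩, fun j => (h1 j).1 (h6 j)⟩
    change PerfAux.eulerChar f _ _ = _
    rw [eulerChar_eq f hP h2 h3, h4]
  · rintro ⟨⟨⟨h2, h3⟩, h5⟩, h6⟩
    obtain ⟨h7, h8⟩ := (conSet_iff f hP).2 h2
    refine ⟨h7, h8, ?_, h5, fun j => (h1 j).2 (h6 j)⟩
    change PerfAux.eulerChar f _ _ = _ at h3
    rw [eulerChar_eq f hP h7 h8] at h3
    omega

theorem loc_prestable (g : ℕ) : Loc (PreProp n g) f σ hσ =
    GenSet f g ∩ {s : T | Function.Injective fun j => σ j s} ∩ {s : T | ∀ j, SmoothAt f (σ j s)} := by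
  ext s
  refine mem_loc_iff_of f σ hσ _ fun Ω _ _ t ht X' i q hP => ?_
  rw [← ht]
  exact isPrestablePtd_iff f σ hσ g hP

theorem isOpen_prestable (g : ℕ) : IsOpen (Loc (PreProp n g) f σ hσ) := by
  rw [loc_prestable]
  exact ((isOpen_genSet f g).inter (isOpen_injective f σ hσ)).inter (isOpen_smoothAt f σ)

theorem loc_nodal : Loc (NodProp n) f σ hσ = NodSet f := by
  ext s
  refine mem_loc_iff_of f σ hσ _ fun Ω _ _ t ht X' i q hP => ?_
  have hlfp : LocallyOfFinitePresentation q := MorphismProperty.of_isPullback hP inferInstance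
  have h1 : NodProp n Ω X' q (markedPt σ hσ hP) ↔ Curv2.IsNodalFamily q := nodal_field_iff q
  rw [h1, isNodalFamily_iff, nodSet_iff f hP, ht]

theorem isOpen_nodal : IsOpen (Loc (NodProp n) f σ hσ) := by
  rw [loc_nodal]
  exact isOpen_nodSet f

theorem extDesc_prestable (n g : ℕ) : ExtDesc (PreProp.{u} n g) :=
  extDesc_of fun _ _ _ _ f σ hσ _ _ _ => ⟨_, fun _ _ _ _ _ _ _ hP => isPrestablePtd_iff f σ hσ g hP⟩

theorem nodProp_iff {Ω : Type u} [Field Ω] [IsAlgClosed Ω] {t : Spec (CommRingCat.of Ω) ⟶ T}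
    {X' : Scheme.{u}} {i : X' ⟶ C} {q : X' ⟶ Spec (CommRingCat.of Ω)} (hP : IsPullback i q f t) (m : Fin n → X') :
    NodProp n Ω X' q m ↔ t.base (IsLocalRing.closedPoint Ω) ∈ NodSet f := by
  have hlfp : LocallyOfFinitePresentation q := MorphismProperty.of_isPullback hP inferInstance
  have h1 : NodProp n Ω X' q m ↔ Curv2.IsNodalFamily q := nodal_field_iff q
  rw [h1, isNodalFamily_iff, nodSet_iff f hP]

theorem extDesc_nodal (n : ℕ) : ExtDesc (NodProp.{u} n) :=
  extDesc_of fun _ _ _ _ f _ _ _ _ _ => ⟨_, fun _ _ _ _ _ _ _ hP => nodProp_iff f hP _⟩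

end Prestable

end K901.SchPre
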