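import Groth.Agent.CurvSt.K901.Loci
import Groth.Agent.CurvSt.K899.LocCrit
import Groth.Agent.AlgSp.K597.EtLoc
import Groth.Agent.AlgSp.K597.LocP

/-!
Open substacks of the stack of curves from pointwise loci: `K901.LocusOpen.openLoc`, `K901.LocusOpen.hasOpenLocus`,
`K901.LocusOpen.isOpenSubstack` for a `K901.Loci.LocusProp R`.
-/

set_option autoImplicit false
universe u

open AlgebraicGeometry CategoryTheory CategoryTheory.Limits

namespace K901.LocusOpen

open K901.Loci AlgSp

/-- `R` holds everywhere. -/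
abbrev Everywhere (R : PtProp.{u}) : MorphismProperty Scheme.{u} := fun _ _ f => ∀ x, R f x

/-- flat, locally of finite presentation, and `R` everywhere. -/
def FlatFPWith (R : PtProp.{u}) : MorphismProperty Scheme.{u} := fun _ _ f =>
  Flat f ∧ LocallyOfFinitePresentation f ∧ ∀ x, R f x

variable {R : PtProp.{u}}

/-- `FlatFPWith R` is etale local on the source and the target. -/
theorem etLoc (hR : LocusProp R) : K597.EtLoc (FlatFPWith R) where
  precomp A B C e f he hf := by
    obtain ⟨h1, h2, h3⟩ := hf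
    exact ⟨inferInstance, inferInstance, fun x => (hR.source e f x).2 (h3 _)⟩
  postcomp A B C f e he hf := by
    obtain ⟨h1, h2, h3⟩ := hf
    exact ⟨inferInstance, inferInstance, fun x => (hR.target f e x).2 (h3 _)⟩
  cancel A B C f e he hf := by
    obtain ⟨h1, h2, h3⟩ := hf
    have h4 : Flat f := K597.etLoc_flat.cancel f e he h1
    have h5 : LocallyOfFinitePresentation f := K597.etLoc_lfp.cancel f e he h2
    exact ⟨h4, h5, fun x => (hR.target f e x).1 (h3 x)⟩
  descend' B C f H := by
    have h4 : Flat f := K597.etLoc_flat.descend' f fun b => by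
      obtain ⟨A, e, h1, h2, h3⟩ := H b
      exact ⟨A, e, h1, h2, h3.1⟩
    have h5 : LocallyOfFinitePresentation f := K597.etLoc_lfp.descend' f fun b => by
      obtain ⟨A, e, h1, h2, h3⟩ := H b
      exact ⟨A, e, h1, h2, h3.2.1⟩
    refine ⟨h4, h5, fun b => ?_⟩
    obtain ⟨A, e, h1, ⟨a, rfl⟩, h3⟩ := H b
    exact (hR.source e f a).1 (h3.2.2 a)

/-- `FlatFPWith R` is stable under base change. -/
theorem stableBC (hR : LocusProp R) : (FlatFPWith R).IsStableUnderBaseChange where
  of_isPullback {X Y Y' S f g f' g'} sq h := by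
    obtain ⟨h1, h2, h3⟩ := h
    exact ⟨MorphismProperty.of_isPullback sq h1, MorphismProperty.of_isPullback sq h2, fun x =>
      (hR.baseChange _ _ _ _ sq x).2 (h3 _)⟩

/-- The conditions of helper899's criterion. -/
theorem openLoc (hR : LocusProp R) : K899.LocCrit.OpenLoc (FlatFPWith R) where
  of_postcomp h e he H := (etLoc hR).cancel h e he H
  of_cover e h he hs H := (etLoc hR).descend e h he hs H
  locus {U V} h hfl hfp := by
    refine ⟨⟨_, hR.isOpen h⟩, fun {V' Y U'} g fst snd sq e he => ?_⟩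
    have h1 : Flat snd := MorphismProperty.of_isPullback sq hfl
    have h2 : LocallyOfFinitePresentation snd := MorphismProperty.of_isPullback sq hfp
    constructor
    · rintro ⟨-, -, h5⟩ _ ⟨x, rfl⟩
      have h6 := (hR.source e snd x).1 (h5 x)
      exact (hR.baseChange h snd fst g sq (e x)).1 h6
    · intro H
      refine ⟨inferInstance, inferInstance, fun x => (hR.source e snd x).2 ?_⟩
      exact (hR.baseChange h snd fst g sq (e x)).2 (H ⟨x, rfl⟩)

section Sp

variable {S : Scheme.{u}}

theorem locP_iff {F G : Sp S} {f : F ⟶ G} (h1 : LocP @Flat f) (h2 : LocP @LocallyOfFinitePresentation f) :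
    LocP (Everywhere R) f ↔ LocP (FlatFPWith R) f :=
  ⟨fun h _ _ a b k ha hb w => ⟨h1 a b k ha hb w, h2 a b k ha hb w, h a b k ha hb w⟩,
    fun h _ _ a b k ha hb w => (h a b k ha hb w).2.2⟩

variable {n : ℕ}

theorem locP_iff_curves (A : (CurvSt.Curves S n).obj) :
    LocP (Everywhere R) A.obj.f ↔ LocP (FlatFPWith R) A.obj.f := by
  obtain ⟨-, h1, -, h2, -⟩ := A.property
  exact locP_iff h1 h2.1

/-- Any predicate equivalent to `LocP (∀ x, R f x)` on families of curves has an open locus. -/
theorem hasOpenLocus_of_iff (hR : LocusProp R) {Q : (CurvSt.Curves S n).obj → Prop}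
    (hQ : ∀ A, Q A ↔ LocP (Everywhere R) A.obj.f) :
    K899.OpenCrit.HasOpenLocus (𝒳 := CurvSt.Curves S n) Q := by
  have h : Q = fun A => LocP (FlatFPWith R) A.obj.f := by
    funext A
    exact propext ((hQ A).trans (locP_iff_curves A))
  rw [h]
  exact K899.LocCrit.hasOpenLocus (openLoc hR) S n

theorem isOpenSubstack_of_iff (hR : LocusProp R) {Q : (CurvSt.Curves S n).obj → Prop}
    (hQ : ∀ A, Q A ↔ LocP (Everywhere R) A.obj.f)
    (hC : AlgSt.IsAlgStack Scheme.fppfPrecoverage (CurvSt.Curves S n)) :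
    AlgSt.IsOpenSubstack (CurvSt.Curves S n) Q Scheme.fppfPrecoverage :=
  K899.OpenCrit.isOpenSubstack hC (hasOpenLocus_of_iff hR hQ)

theorem isOpenSubstack (hR : LocusProp R)
    (hC : AlgSt.IsAlgStack Scheme.fppfPrecoverage (CurvSt.Curves S n)) :
    AlgSt.IsOpenSubstack (CurvSt.Curves S n) (fun A => LocP (Everywhere R) A.obj.f) Scheme.fppfPrecoverage :=
  isOpenSubstack_of_iff hR (fun _ => Iff.rfl) hC

end Sp

end K901.LocusOpen
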