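import Groth.Agent.CurvSt.K901.LociCMGor
import Groth.Agent.CurvSt.K901.LocusOpen
import Groth.Agent.AlgSp.K616.DimInv
import Groth.Agent.S9374

/-!
The locus where a morphism is Cohen-Macaulay of relative dimension `d`; `HasAtMor` form of the relative dimension.
-/

set_option autoImplicit false
universe u

open AlgebraicGeometry CategoryTheory CategoryTheory.Limits

namespace K901.Loci

open Groth.Agent AlgSp

/-- The Cohen-Macaulay locus of relative dimension `d`. -/
theorem locusProp_cmDim (d : ℕ) :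
    LocusProp.{u} (fun _ _ f x => MoreMor.IsCMAt f x ∧ FlatMor.fibreDimAt f x = ((d : ℕ) : WithBot ℕ∞)) where
  isOpen X Y f _ _ := by
    let U : X.Opens := ⟨_, locusProp_cm.isOpen f⟩
    have hcm : ∀ u : U.toScheme, MoreMor.IsCMAt (U.ι ≫ f) u := fun u => (locusProp_cm.source U.ι f u).2 u.2
    have h1 := S9374.result (U.ι ≫ f) hcm
    have h2 : IsOpen {u : U.toScheme | FlatMor.fibreDimAt (U.ι ≫ f) u = ((d : ℕ) : WithBot ℕ∞)} :=
      h1.isOpen_fiber _
    have h3 : {x : X | MoreMor.IsCMAt f x ∧ FlatMor.fibreDimAt f x = ((d : ℕ) : WithBot ℕ∞)} =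
        U.ι '' {u : U.toScheme | FlatMor.fibreDimAt (U.ι ≫ f) u = ((d : ℕ) : WithBot ℕ∞)} := by
      ext x
      constructor
      · rintro ⟨h4, h5⟩
        refine ⟨⟨x, h4⟩, ?_, rfl⟩
        exact (K616.DimInv.fibreDimAt_comp_of_etale U.ι f _).trans h5
      · rintro ⟨u, h4, rfl⟩
        exact ⟨u.2, (K616.DimInv.fibreDimAt_comp_of_etale U.ι f u).symm.trans h4⟩
    rw [h3]
    exact U.ι.isOpenEmbedding.isOpenMap _ h2
  baseChange X Y X' Y' f f' g' g _ _ hsq x' := by
    refine and_congr (locusProp_cm.baseChange f f' g' g hsq x') ?_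
    rw [Groth.Agent.Ega4fib.H172.FibDimBC.fibreDimAt_of_isPullback hsq x']
  source _ _ _ a f _ _ _ u := by
    refine and_congr (locusProp_cm.source a f u) ?_
    rw [K616.DimInv.fibreDimAt_comp_of_etale]

variable {S : Scheme.{u}}

/-- A pointwise condition "on some chart diagram through every point" and its form "on all chart diagrams". -/
theorem forall_hasAtMor_iff {P : MorphismProperty Scheme.{u}} {Q : ∀ (U V : Scheme.{u}), (U ⟶ V) → ↥U → Prop}
    (hQ : K616.Inv.EtInvOn P Q) {F G : Sp S} (hF : IsAlgSpace F) (hG : IsAlgSpace G) {f : F ⟶ G} (hf : LocP P f) :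
    (∀ x : Points F, HasAtMor Q f x) ↔ LocP (fun U V g => ∀ x, Q U V g x) f := by
  constructor
  · intro H U V a b h ha hb w u
    exact (K616.Inv.hasAtMor_iff hQ hf a b h ha hb w u).1 (H _)
  · intro H x
    obtain ⟨U, V, a, b, h, u, ha, hb, w, rfl⟩ := K616.Inv.exists_diagram hF hG f x
    exact (K616.Inv.hasAtMor_iff hQ hf a b h ha hb w u).2 (H a b h ha hb w u)

theorem locP_lft_of_lfp {F G : Sp S} {f : F ⟶ G} (hf : LocP @LocallyOfFinitePresentation f) :
    LocP @LocallyOfFiniteType f := fun _ _ a b k ha hb w => by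
  have := hf a b k ha hb w
  infer_instance

/-- The relative dimension condition on a morphism of algebraic spaces, on all charts. -/
theorem forall_hasAtMor_fibreDimAt_iff (R : WithBot ℕ∞ → Prop) {F G : Sp S} (hF : IsAlgSpace F)
    (hG : IsAlgSpace G) {f : F ⟶ G} (hf : LocP @LocallyOfFiniteType f) :
    (∀ x : Points F, HasAtMor (fun _ _ h u => R (FlatMor.fibreDimAt h u)) f x) ↔
      LocP (fun _ _ g => ∀ x, R (FlatMor.fibreDimAt g x)) f :=
  forall_hasAtMor_iff (K616.DimInv.etInvOn_fibreDimAt R) hF hG hf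

end K901.Loci
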