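import Groth.Prelude.Def_StCurv2
import Groth.Agent.AlgSp.K596.QC2
import Groth.Agent.AlgSp.K596.Univ
import Groth.Agent.AlgSp.K597.EtLoc
import Groth.Agent.AlgSp.K597.LocP
import Groth.Agent.CurvSt.K901.LociDim

/-!
A scheme-vertex base change of a family of curves is flat, proper, locally of finite presentation, of relative dimension at
most one: `K901.SchFib.*_of_isPullback`, `K901.SchFib.facts`.
-/

set_option autoImplicit false
universe u

open AlgebraicGeometry CategoryTheory CategoryTheory.Limits AlgSp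

namespace K901.SchFib

variable {S : Scheme.{u}}

/-- locally of finite type with the local dimensions of the fibres satisfying `R`. -/
def DimWith (R : WithBot ℕ∞ → Prop) : MorphismProperty Scheme.{u} := fun _ _ g =>
  LocallyOfFiniteType g ∧ ∀ x, R (FlatMor.fibreDimAt g x)

theorem etLoc_dimWith (R : WithBot ℕ∞ → Prop) : K597.EtLoc (DimWith.{u} R) where
  precomp A B C e f he hf := by
    obtain ⟨h1, h3⟩ := hf
    refine ⟨inferInstance, fun x => ?_⟩
    rw [K616.DimInv.fibreDimAt_comp_of_etale]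
    exact h3 _
  postcomp A B C f e he hf := by
    obtain ⟨h1, h3⟩ := hf
    refine ⟨inferInstance, fun x => ?_⟩
    have h4 : FlatMor.fibreDimAt (f ≫ e) x = FlatMor.fibreDimAt f x :=
      K616.DimInv.fibreDimAt_square (f ≫ e) f (𝟙 A) e (by simp) x
    rw [h4]
    exact h3 _
  cancel A B C f e he hf := by
    obtain ⟨h1, h3⟩ := hf
    refine ⟨K597.etLoc_lft.cancel f e he h1, fun x => ?_⟩
    have h4 : FlatMor.fibreDimAt (f ≫ e) x = FlatMor.fibreDimAt f x :=
      K616.DimInv.fibreDimAt_square (f ≫ e) f (𝟙 A) e (by simp) x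
    rw [← h4]
    exact h3 _
  descend' B C f H := by
    refine ⟨K597.etLoc_lft.descend' f fun b => ?_, fun b => ?_⟩
    · obtain ⟨A, e, h1, h2, h3⟩ := H b
      exact ⟨A, e, h1, h2, h3.1⟩
    · obtain ⟨A, e, h1, ⟨a, rfl⟩, h3⟩ := H b
      rw [← K616.DimInv.fibreDimAt_comp_of_etale]
      exact h3.2 _

instance stableBC_dimWith (R : WithBot ℕ∞ → Prop) : (DimWith.{u} R).IsStableUnderBaseChange where
  of_isPullback {X Y Y' S f g f' g'} sq h := by
    obtain ⟨h1, h3⟩ := h
    refine ⟨MorphismProperty.of_isPullback sq h1, fun x => ?_⟩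
    rw [Groth.Agent.Ega4fib.H172.FibDimBC.fibreDimAt_of_isPullback sq x]
    exact h3 _

section

variable {X G : Sp S} {T' X' : Over S} {f : X ⟶ G} {g : (yon S).obj T' ⟶ G} {q : X' ⟶ T'} {i : (yon S).obj X' ⟶ X}

theorem locP_of_isPullback {P : MorphismProperty Scheme.{u}} (hP : K597.EtLoc P) [P.IsStableUnderBaseChange]
    (hX : IsAlgSpace X) (hG : IsAlgSpace G) (h : LocP P f) (sq : IsPullback i ((yon S).map q) f g) : P q.left :=
  locP_yon_map (K597.locP_bc hP sq hX.hasAtlas hG.hasAtlas (IsAlgSpace.yon_obj T').hasAtlas h)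

theorem isSeparated_of_isPullback (h : IsSeparatedMor f) (sq : IsPullback i ((yon S).map q) f g) :
    IsSeparated q.left := by
  have := AlgSp.repWith_isStableUnderBaseChange (S := S) @IsClosedImmersion
  have h1 : (RepWith (S := S) @IsClosedImmersion).RespectsIso :=
    MorphismProperty.IsStableUnderBaseChange.respectsIso
  have h2 : (RepWith (S := S) @IsClosedImmersion).diagonal ((yon S).map q) :=
    MorphismProperty.of_isPullback (P := (RepWith (S := S) @IsClosedImmersion).diagonal) sq h
  exact (isSeparatedMor_yon_map_iff q).1 h2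

theorem quasiCompact_of_isPullback (h : IsQuasiCompactMor f) (sq : IsPullback i ((yon S).map q) f g) :
    QuasiCompact q.left :=
  (repWith_yon_map_iff _ _).1 (K596.QC.repWith_of_isQuasiCompactMor (representable_yon_map q)
    (K596.QC.isQuasiCompactMor_of_isPullback sq h))

theorem isUnivClosedMor_of_isPullback {G' F' : Sp S} {g : G' ⟶ G} {i : F' ⟶ X} {f' : F' ⟶ G'}
    (h : IsUnivClosedMor f) (sq : IsPullback i f' f g) : IsUnivClosedMor f' :=
  fun _ _ hZ k _ _ sq' => h hZ (k ≫ g) _ _ (sq'.paste_horiz sq)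

theorem universallyClosed_of_isPullback (h : IsUnivClosedMor f) (sq : IsPullback i ((yon S).map q) f g) :
    UniversallyClosed q.left :=
  (repWith_yon_map_iff _ _).1 ((K596.Univ.repWith_universallyClosed_iff (representable_yon_map q)).2
    (isUnivClosedMor_of_isPullback h sq))

theorem isProper_of_isPullback (hX : IsAlgSpace X) (hG : IsAlgSpace G) (h : IsProperMor f)
    (sq : IsPullback i ((yon S).map q) f g) : IsProper q.left := by
  have h1 := isSeparated_of_isPullback h.1 sq
  have h2 := locP_of_isPullback K597.etLoc_lft hX hG h.2.1.1 sq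
  have h3 := universallyClosed_of_isPullback h.2.2 sq
  exact { }

theorem fibreDimAt_of_isPullback (R : WithBot ℕ∞ → Prop) (hX : IsAlgSpace X) (hG : IsAlgSpace G)
    (hf : LocP @LocallyOfFiniteType f)
    (h : ∀ x : Points X, HasAtMor (fun _ _ h u => R (FlatMor.fibreDimAt h u)) f x)
    (sq : IsPullback i ((yon S).map q) f g) (x : X'.left) : R (FlatMor.fibreDimAt q.left x) := by
  rw [K901.Loci.forall_hasAtMor_fibreDimAt_iff R hX hG hf] at h
  have h1 : LocP (DimWith R) f := fun _ _ a b k ha hb w => ⟨hf a b k ha hb w, h a b k ha hb w⟩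
  exact (locP_of_isPullback (etLoc_dimWith R) hX hG h1 sq).2 x

end

open CurvSt

variable {n : ℕ}

/-- A scheme-vertex base change of a family of curves. -/
theorem facts {A : SpFamObj S n} (hA : IsCurveFam A) {X' T' : Over S} {g : T' ⟶ A.base} {q : X' ⟶ T'}
    {i : (yon S).obj X' ⟶ A.X} (sq : IsPullback i ((yon S).map q) A.f ((yon S).map g)) :
    Flat q.left ∧ IsProper q.left ∧ LocallyOfFinitePresentation q.left ∧
      ∀ x, FlatMor.fibreDimAt q.left x ≤ ((1 : ℕ) : WithBot ℕ∞) := by
  obtain ⟨hX, h1, h2, h3, h4⟩ := hA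
  have hG := IsAlgSpace.yon_obj A.base
  exact ⟨locP_of_isPullback K597.etLoc_flat hX hG h1 sq, isProper_of_isPullback hX hG h2 sq,
    locP_of_isPullback K597.etLoc_lfp hX hG h3.1 sq,
    fibreDimAt_of_isPullback (fun m => m ≤ ((1 : ℕ) : WithBot ℕ∞)) hX hG (K901.Loci.locP_lft_of_lfp h3.1) h4 sq⟩

end K901.SchFib
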