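import Groth.Agent.CurvSt.K901.SchFib
import Groth.Agent.CurvSt.K901.LocusOpen
import Groth.Agent.CurvSt.K902.LocSch

/-!
Pointwise conditions on geometric fibres of families of curves and `LocP` conditions.

`K901.GeomLoc.HasSchFibres A`: every geometric fibre of `A` is a scheme.
`K901.GeomLoc.geomFib_iff_locP`: for `R` a `LocusProp`, every geometric fibre satisfies `R` everywhere iff
`LocP (∀ x, R g x) A.f`.
`K901.GeomLoc.isOpenSubstack`: the corresponding open substack.
-/

set_option autoImplicit false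
universe u

open AlgebraicGeometry CategoryTheory CategoryTheory.Limits AlgSp CurvSt

namespace K901.GeomLoc

open K901.Loci K901.LocusOpen

variable {S : Scheme.{u}} {n : ℕ}

/-- Every geometric fibre of the family `A` is a scheme. -/
def HasSchFibres (A : SpFamObj S n) : Prop :=
  ∀ (Ω : Type u) [Field Ω] [IsAlgClosed Ω] (t : Spec (CommRingCat.of Ω) ⟶ A.base.left),
    ∃ (X' : Scheme.{u}) (q : X' ⟶ Spec (CommRingCat.of Ω)) (i : (yon S).obj (A.ptOver (q ≫ t)) ⟶ A.X),
      IsPullback i ((yon S).map (A.fibHom t q)) A.f ((yon S).map (A.ptHom t))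

/-- A geometric point over a point of a scheme. -/
theorem exists_geomPt {T : Scheme.{u}} (s : T) : ∃ (Ω : Type u) (_ : Field Ω) (_ : IsAlgClosed Ω)
    (t : Spec (CommRingCat.of Ω) ⟶ T), t.base (IsLocalRing.closedPoint Ω) = s := by
  have key : ∀ (W : Scheme.{u}) (g : W ⟶ Spec (T.residueField s)) (w : W), (g ≫ T.fromSpecResidueField s) w = s :=
    fun W g w => (Scheme.Hom.comp_apply g (T.fromSpecResidueField s) w).trans (Scheme.fromSpecResidueField_apply s _)
  exact ⟨AlgebraicClosure (T.residueField s), inferInstance, inferInstance,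
    Spec.map (CommRingCat.ofHom (algebraMap (T.residueField s) (AlgebraicClosure (T.residueField s)))) ≫
      T.fromSpecResidueField s, key _ _ _⟩

variable {R : PtProp.{u}}

/-- `LocP` of `h_f`. -/
theorem locP_yon_map' (hR : LocusProp R) {X Y : Over S} (f : X ⟶ Y) (h : FlatFPWith R f.left) :
    LocP (FlatFPWith R) ((yon S).map f) :=
  K902.LocSch.locP_yon_map_of (FlatFPWith R) (FlatFPWith R)
    (fun _ _ _ _ sq _ h' => (stableBC hR).of_isPullback sq h')
    (fun a f ha h' => (etLoc hR).precomp a f ha h') f h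

/-- A pointwise condition on all geometric fibres is an etale local condition on the family. -/
theorem geomFib_iff_locP (hR : LocusProp R) (A : SpFamObj S n) (hA : IsCurveFam A) (hF : HasSchFibres A) :
    GeomFib (fun _ _ _ _ q _ => ∀ x, R q x) A ↔ LocP (Everywhere R) A.f := by
  have := stableBC hR
  obtain ⟨hX, h1, h2, h3, h4⟩ := id hA
  have hG := IsAlgSpace.yon_obj A.base
  rw [locP_iff h1 h3.1]
  constructor
  · intro H
    obtain ⟨U, hU⟩ := K899.LocCrit.exists_locus (openLoc hR) hX A.f h1 h3.1 h2.2.2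
    have hU' : ∀ s : A.base.left, s ∈ U := by
      intro s
      obtain ⟨Ω, _, _, t, ht⟩ := exists_geomPt s
      obtain ⟨X', q, i, sq⟩ := hF Ω t
      obtain ⟨f1, f2, f3, -⟩ := SchFib.facts hA sq
      have h5 := (hU (A.ptHom t) _ _ sq).1 (locP_yon_map' hR _ ⟨f1, f3, H Ω t X' q i sq⟩)
      exact h5 ⟨_, ht⟩
    have hid : IsPullback (𝟙 A.X) A.f A.f ((yon S).map (𝟙 A.base)) := by
      rw [CategoryTheory.Functor.map_id]
      exact IsPullback.of_horiz_isIso ⟨by simp⟩
    exact (hU (𝟙 A.base) _ _ hid).2 (fun s _ => hU' s)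
  · intro H Ω _ _ t X' q i sq
    exact (SchFib.locP_of_isPullback (etLoc hR) hX hG H sq).2.2

/-- Version with a condition on schemes over algebraically closed fields which is equivalent to `R` everywhere for proper
schemes of dimension at most one. -/
theorem geomFib_iff_locP_of_iff (hR : LocusProp R) (A : SpFamObj S n) (hA : IsCurveFam A) (hF : HasSchFibres A)
    {P : ∀ (Ω : Type u) [Field Ω] [IsAlgClosed Ω] (X' : Scheme.{u}),
      (X' ⟶ Spec (CommRingCat.of Ω)) → (Fin n → ↥X') → Prop}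
    (hP : ∀ (Ω : Type u) [Field Ω] [IsAlgClosed Ω] (X' : Scheme.{u}) (q : X' ⟶ Spec (CommRingCat.of Ω))
      (m : Fin n → ↥X'), IsProper q → (∀ x, FlatMor.fibreDimAt q x ≤ ((1 : ℕ) : WithBot ℕ∞)) →
        (P Ω X' q m ↔ ∀ x, R q x)) :
    GeomFib P A ↔ LocP (Everywhere R) A.f := by
  rw [← geomFib_iff_locP hR A hA hF]
  constructor
  · intro H Ω _ _ t X' q i sq
    obtain ⟨-, f2, -, f4⟩ := SchFib.facts hA sq
    exact (hP Ω X' q _ f2 f4).1 (H Ω t X' q i sq)
  · intro H Ω _ _ t X' q i sq
    obtain ⟨-, f2, -, f4⟩ := SchFib.facts hA sq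
    exact (hP Ω X' q _ f2 f4).2 (H Ω t X' q i sq)

/-- The open substack of the stack of curves cut out by a pointwise condition on the geometric fibres. -/
theorem isOpenSubstack (hR : LocusProp R) (hF : ∀ A : (Curves S n).obj, HasSchFibres A.obj)
    {P : ∀ (Ω : Type u) [Field Ω] [IsAlgClosed Ω] (X' : Scheme.{u}),
      (X' ⟶ Spec (CommRingCat.of Ω)) → (Fin n → ↥X') → Prop}
    (hP : ∀ (Ω : Type u) [Field Ω] [IsAlgClosed Ω] (X' : Scheme.{u}) (q : X' ⟶ Spec (CommRingCat.of Ω))
      (m : Fin n → ↥X'), IsProper q → (∀ x, FlatMor.fibreDimAt q x ≤ ((1 : ℕ) : WithBot ℕ∞)) →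
        (P Ω X' q m ↔ ∀ x, R q x))
    (hC : AlgSt.IsAlgStack Scheme.fppfPrecoverage (CurvSt.Curves S n)) :
    AlgSt.IsOpenSubstack (Curves S n) (fun A => GeomFib P A.obj) Scheme.fppfPrecoverage :=
  isOpenSubstack_of_iff hR (fun A => geomFib_iff_locP_of_iff hR A.obj A.property (hF A) hP) hC

end K901.GeomLoc
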