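import Groth.Agent.CurvSt.K901.Loci
import Groth.Agent.UnramA.FlatDim0
import Groth.Agent.Dual.H373.GorComp
import Groth.Agent.S1341
import Groth.Agent.S1342
import Groth.Agent.S3617
import Groth.Agent.S3626

/-!
The Cohen-Macaulay and Gorenstein loci of flat morphisms locally of finite presentation.
-/

set_option autoImplicit false
universe u

open AlgebraicGeometry CategoryTheory CategoryTheory.Limits IsLocalRing

namespace K901.Loci

open Groth.Agent

theorem etInv_cm : EtInv.{u} (fun A _ => LocCoh.IsCohenMacaulayLocalRing A) where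
  iso A B _ _ e h := by
    have := h
    exact Flat2D.FiberStalk.isCohenMacaulayLocalRing_of_ringEquiv e
  etale A B _ _ _ _ _ _ _ _ _ h := UnramA.FlatDim0.isCohenMacaulayLocalRing_iff h

theorem isGorenstein_of_field (A : Type u) [CommRing A] (h : IsField A) : LocCoh.IsGorensteinLocalRing A := by
  let _ := h.toField
  exact S0342.result A

theorem etInv_gor : EtInv.{u} (fun A _ => LocCoh.IsGorensteinLocalRing A) where
  iso A B _ _ e h := LoccohA.GorBC.isGorensteinLocalRing_of_ringEquiv e h
  etale A B _ _ _ _ _ _ _ _ _ h := by
    rw [S0344.result A B]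
    refine and_iff_left ?_
    apply isGorenstein_of_field
    rw [h]
    exact (Ideal.Quotient.maximal_ideal_iff_isField_quotient _).1 inferInstance

theorem locusProp_cm : LocusProp.{u} (fun _ _ f x => MoreMor.IsCMAt f x) where
  isOpen X Y f _ _ := (S1341.result f).1
  baseChange X Y X' Y' f f' g' g _ _ hsq x' := by
    have := S1342.result f f' g' g hsq
    exact Set.ext_iff.1 this x'
  source _ _ _ a f _ _ _ u := fibLoc_comp_etale etInv_cm a f u

theorem locusProp_gor : LocusProp.{u} (fun _ _ f x => Dual3.IsGorensteinAt f x) where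
  isOpen X Y f _ _ := S3617.result X Y f
  baseChange X Y X' Y' f f' g' g _ _ hsq x' := S3626.result X Y X' Y' f g f' g' hsq x'
  source _ _ _ a f _ _ _ u := fibLoc_comp_etale etInv_gor a f u

end K901.Loci
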