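import Groth.Agent.Flat2D.CMConverse
import Groth.Agent.Etbase.EtaleStalk
import Groth.Agent.Sga3C.FlatOfComp

/-!
Pointwise properties `R f x` of morphisms of schemes that are open, compatible with base change and
etale local on the source (for flat morphisms locally of finite presentation): `K901.Loci.LocusProp`.
General construction from an etale local property of the local rings of the fibres: `fibLoc_comp_etale`.
-/

set_option autoImplicit false
universe u

open AlgebraicGeometry CategoryTheory CategoryTheory.Limits IsLocalRing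

namespace K901.Loci

open Groth.Agent.Flat2D.FiberStalk Groth.Agent.Flat2D.CMFlatArt Groth.Agent.Flat2D.CMConverse
open Groth.Agent

/-- A pointwise property of morphisms of schemes. -/
abbrev PtProp : Type (u + 1) := ∀ ⦃X Y : Scheme.{u}⦄ (_ : X ⟶ Y), X → Prop

/-- A pointwise property whose locus is open, compatible with base change and etale local on the source, for flat
morphisms locally of finite presentation. -/
structure LocusProp (R : PtProp.{u}) : Prop where
  isOpen : ∀ ⦃X Y : Scheme.{u}⦄ (f : X ⟶ Y) [Flat f] [LocallyOfFinitePresentation f], IsOpen {x : X | R f x}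
  baseChange : ∀ ⦃X Y X' Y' : Scheme.{u}⦄ (f : X ⟶ Y) (f' : X' ⟶ Y') (g' : X' ⟶ X) (g : Y' ⟶ Y)
    [Flat f] [LocallyOfFinitePresentation f] (_ : IsPullback g' f' f g) (x' : X'), R f' x' ↔ R f (g' x')
  source : ∀ ⦃U X Y : Scheme.{u}⦄ (a : U ⟶ X) (f : X ⟶ Y) [Etale a] [Flat f] [LocallyOfFinitePresentation f]
    (u : U), R (a ≫ f) u ↔ R f (a u)

namespace LocusProp

variable {R : PtProp.{u}}

/-- The locus does not change under composition with an etale morphism on the target. -/
theorem target (hR : LocusProp R) {X Y Z : Scheme.{u}} (f : X ⟶ Y) (b : Y ⟶ Z) [Etale b] [Flat f]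
    [LocallyOfFinitePresentation f] (x : X) : R (f ≫ b) x ↔ R f x := by
  let s : X ⟶ pullback (f ≫ b) b := pullback.lift (𝟙 X) f (by simp)
  have hs1 : s ≫ pullback.fst (f ≫ b) b = 𝟙 X := pullback.lift_fst _ _ _
  have hs2 : s ≫ pullback.snd (f ≫ b) b = f := pullback.lift_snd _ _ _
  have hs : Etale s := by
    have : Etale (s ≫ pullback.fst (f ≫ b) b) := by rw [hs1]; infer_instance
    exact Etale.of_comp s (pullback.fst (f ≫ b) b)
  have h1 := hR.baseChange (f ≫ b) (pullback.snd (f ≫ b) b) (pullback.fst (f ≫ b) b) b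
    (IsPullback.of_hasPullback _ _) (s x)
  have h2 : (pullback.fst (f ≫ b) b) (s x) = x := by
    rw [← Scheme.Hom.comp_apply, hs1]
    rfl
  rw [h2] at h1
  have h3 := hR.source s (pullback.snd (f ≫ b) b) x
  rw [hs2] at h3
  rw [h3, h1]

end LocusProp

/-- The property of a morphism at a point given by flatness and a property of the local ring of the fibre. -/
def FibLoc (P : ∀ (A : Type u) [CommRing A], Prop) : PtProp.{u} := fun _ _ f x =>
  (f.stalkMap x).hom.Flat ∧ P ((f.fiber (f x)).presheaf.stalk (f.asFiber x))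

/-- `P` is invariant under isomorphism and under flat local homomorphisms `A → B` of Noetherian local rings with
`m_A B = m_B`. -/
structure EtInv (P : ∀ (A : Type u) [CommRing A], Prop) : Prop where
  iso : ∀ (A B : Type u) [CommRing A] [CommRing B], (A ≃+* B) → P A → P B
  etale : ∀ (A B : Type u) [CommRing A] [CommRing B] [IsLocalRing A] [IsLocalRing B] [Algebra A B]
    [IsLocalHom (algebraMap A B)] [IsNoetherianRing A] [IsNoetherianRing B] [Module.Flat A B],
    (maximalIdeal A).map (algebraMap A B) = maximalIdeal B → (P B ↔ P A)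

theorem fibLoc_iff {P : ∀ (A : Type u) [CommRing A], Prop} (hP : EtInv P) {X Y : Scheme.{u}} (f : X ⟶ Y) (x : X) :
    FibLoc P f x ↔ (f.stalkMap x).hom.Flat ∧ P (X.presheaf.stalk x ⧸ fibreIdeal f x) := by
  obtain ⟨e⟩ := nonempty_asFiber_stalkEquiv f x
  exact and_congr Iff.rfl ⟨hP.iso _ _ e.symm, hP.iso _ _ e⟩

/-- Flatness at a point and composition with an etale morphism on the source. -/
theorem flat_stalkMap_comp_etale {U X Y : Scheme.{u}} (a : U ⟶ X) (f : X ⟶ Y) [Etale a] (u : U) :
    ((a ≫ f).stalkMap u).hom.Flat ↔ (f.stalkMap (a u)).hom.Flat := by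
  have h0 : (a ≫ f).stalkMap u = f.stalkMap (a u) ≫ a.stalkMap u := Scheme.Hom.stalkMap_comp a f u
  have h1 : (a.stalkMap u).hom.Flat := Flat.stalkMap a u
  have h3 : (a.stalkMap u).hom.FaithfullyFlat := by
    algebraize [(a.stalkMap u).hom]
    have hl : IsLocalHom (algebraMap (X.presheaf.stalk (a u)) (U.presheaf.stalk u)) :=
      inferInstanceAs (IsLocalHom (a.stalkMap u).hom)
    have := Module.FaithfullyFlat.of_flat_of_isLocalHom
      (A := X.presheaf.stalk (a u)) (B := U.presheaf.stalk u)
    rw [← RingHom.faithfullyFlat_algebraMap_iff] at this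
    exact this
  constructor
  · intro h
    refine Sga3C.FlatOfComp.ringHom_flat_of_comp _ (a.stalkMap u).hom h3 ?_
    rw [h0] at h
    exact h
  · intro h
    rw [h0]
    exact h.comp h1

/-- Etale locality on the source. -/
theorem fibLoc_comp_etale {P : ∀ (A : Type u) [CommRing A], Prop} (hP : EtInv P) {U X Y : Scheme.{u}} (a : U ⟶ X)
    (f : X ⟶ Y) [Etale a] [LocallyOfFiniteType f] (u : U) :
    FibLoc P (a ≫ f) u ↔ FibLoc P f (a u) := by
  rw [fibLoc_iff hP, fibLoc_iff hP, flat_stalkMap_comp_etale]
  refine and_congr Iff.rfl ?_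
  have hN1 : IsNoetherianRing (U.presheaf.stalk u ⧸ fibreIdeal (a ≫ f) u) :=
    isNoetherianRing_of_locallyOfFiniteType (a ≫ f) u
  have hN2 : IsNoetherianRing (X.presheaf.stalk (a u) ⧸ fibreIdeal f (a u)) :=
    isNoetherianRing_of_locallyOfFiniteType f (a u)
  obtain ⟨h1, h2, h3, h4⟩ := Etbase.EtaleStalk.stalkMap_facts a u
  algebraize [(a.stalkMap u).hom]
  rw [fibreIdeal_comp] at hN1 ⊢
  have hI := fibreIdeal_le f (a u)
  have hloc := isLocalHom_quot (X.presheaf.stalk (a u)) (U.presheaf.stalk u) hI
  have hflat := flat_quot (X.presheaf.stalk (a u)) (U.presheaf.stalk u) (fibreIdeal f (a u))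
  have hn := nontrivial_quot (U.presheaf.stalk u)
    (map_le (X.presheaf.stalk (a u)) (U.presheaf.stalk u) hI)
  have hl : IsLocalRing (U.presheaf.stalk u ⧸ (fibreIdeal f (a u)).map
      (algebraMap (X.presheaf.stalk (a u)) (U.presheaf.stalk u))) :=
    .of_surjective' (Ideal.Quotient.mk _) Ideal.Quotient.mk_surjective
  have hN1' : IsNoetherianRing (U.presheaf.stalk u ⧸ (fibreIdeal f (a u)).map
      (algebraMap (X.presheaf.stalk (a u)) (U.presheaf.stalk u))) := hN1
  refine hP.etale (X.presheaf.stalk (a u) ⧸ fibreIdeal f (a u))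
    (U.presheaf.stalk u ⧸ (fibreIdeal f (a u)).map
      (algebraMap (X.presheaf.stalk (a u)) (U.presheaf.stalk u))) ?_
  rw [map_maximalIdeal_quot, Algebra.FormallyUnramified.map_maximalIdeal]
  have hm : IsLocalHom (Ideal.Quotient.mk ((fibreIdeal f (a u)).map
      (algebraMap (X.presheaf.stalk (a u)) (U.presheaf.stalk u)))) :=
    IsLocalHom.of_surjective _ Ideal.Quotient.mk_surjective
  exact IsLocalRing.map_maximalIdeal_of_surjective _ Ideal.Quotient.mk_surjective

end K901.Loci
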