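import Groth.Agent.CurvSt.K901.GeomFibAt
import Groth.Agent.CurvSt.K901.GeomLoc
import Groth.Agent.CurvSt.K899.OpenCrit
import Mathlib.AlgebraicGeometry.Sites.EtalePoint

/-!
Families which are schemes etale locally on the base, and openness of conditions on geometric fibres.

* `K901.EtSch.EtLocSch A`: etale locally on the base the total space of `A` is a scheme.
* `schFam`, `schFamHom`: the scheme family attached to a scheme-vertex base change and its morphism to `A`.
* `hasSchFibres_of_etLocSch`.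
* `locus P A`: the set of `s` such that all geometric fibres over `s` satisfy `P`.
* `isOpen_locus_of_etLocSch`: openness of the locus follows from the case of scheme families.
* `hasOpenLocus`: `GeomFib P` has an open locus in `Curves S n`, if `P` descends along extensions of algebraically closed
  fields and has open loci in scheme families.
-/

set_option autoImplicit false

universe u

open CategoryTheory CategoryTheory.Limits AlgebraicGeometry Opposite

namespace K901.EtSch

open CurvSt AlgSp K901.GeomFibAt K901.GeomLoc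

variable {S : Scheme.{u}} {n : ℕ}

/-- Etale locally on the base the total space of `A` is a scheme. -/
def EtLocSch (A : SpFamObj S n) : Prop :=
  ∀ s : A.base.left, ∃ (T' : Scheme.{u}) (g : T' ⟶ A.base.left) (v : T') (X' : Scheme.{u}) (q : X' ⟶ T')
    (j : (yon S).obj (A.ptOver (q ≫ g)) ⟶ A.X), Etale g ∧ g v = s ∧
      IsPullback j ((yon S).map (A.fibHom g q)) A.f ((yon S).map (A.ptHom g))

section SchFam

variable (A : SpFamObj S n) {T' X' : Scheme.{u}} {g : T' ⟶ A.base.left} {q : X' ⟶ T'}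
  {j : (yon S).obj (A.ptOver (q ≫ g)) ⟶ A.X}
  (sq : IsPullback j ((yon S).map (A.fibHom g q)) A.f ((yon S).map (A.ptHom g)))

/-- The induced section. -/
noncomputable def sec (k : Fin n) : A.ptOver g ⟶ A.ptOver (q ≫ g) :=
  (yon S).preimage (sq.lift ((yon S).map (A.ptHom g) ≫ A.sect k) (𝟙 _)
        (by rw [Category.assoc, A.sect_f, Category.comp_id, Category.id_comp]))

theorem map_sec (k : Fin n) : (yon S).map (sec A sq k) = sq.lift ((yon S).map (A.ptHom g) ≫ A.sect k) (𝟙 _)
        (by rw [Category.assoc, A.sect_f, Category.comp_id, Category.id_comp]) :=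
  (yon S).map_preimage _

theorem sec_fibHom (k : Fin n) : sec A sq k ≫ A.fibHom g q = 𝟙 _ := by
  apply (yon S).map_injective
  rw [Functor.map_comp, map_sec, CategoryTheory.Functor.map_id]
  exact sq.lift_snd _ _ _

theorem map_sec_comp (k : Fin n) : (yon S).map (sec A sq k) ≫ j = (yon S).map (A.ptHom g) ≫ A.sect k := by
  rw [map_sec]
  exact sq.lift_fst _ _ _

/-- The scheme family attached to a scheme-vertex base change. -/
noncomputable def schFam : PtFamObj S n where
  base := A.ptOver g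
  C := X'
  f := q
  sect k := (sec A sq k).left
  sect_f k := congrArg CommaMorphism.left (sec_fibHom A sq k)

/-- Comparison of the two structure morphisms of the total space. -/
noncomputable def totIso : (schFam A sq).totOver ≅ A.ptOver (q ≫ g) :=
  Over.isoMk (Iso.refl _) (by
    change 𝟙 X' ≫ (q ≫ g) ≫ A.base.hom = q ≫ g ≫ A.base.hom
    rw [Category.id_comp, Category.assoc])

theorem totIso_hom_fibHom : (totIso A sq).hom ≫ A.fibHom g q = (schFam A sq).fOver := by
  apply Over.OverMorphism.ext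
  change 𝟙 X' ≫ q = q
  rw [Category.id_comp]

theorem map_totIso_hom_fibHom :
    (yon S).map (totIso A sq).hom ≫ (yon S).map (A.fibHom g q) = (yon S).map (schFam A sq).fOver :=
  ((yon S).map_comp _ _).symm.trans (congrArg (yon S).map (totIso_hom_fibHom A sq))

/-- The section, with source spelled out. -/
noncomputable def sectOver' (k : Fin n) : A.ptOver g ⟶ (schFam A sq).totOver := (schFam A sq).sectOver k

theorem sectOver_totIso (k : Fin n) : sectOver' A sq k ≫ (totIso A sq).hom = sec A sq k := by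
  apply Over.OverMorphism.ext
  exact Category.comp_id _

theorem map_sectOver_totIso (k : Fin n) :
    (yon S).map (sectOver' A sq k) ≫ (yon S).map (totIso A sq).hom ≫ j = (yon S).map (A.ptHom g) ≫ A.sect k := by
  rw [← map_sec_comp A sq k, ← sectOver_totIso A sq k, Functor.map_comp, Category.assoc]

theorem isPullback_of_iso_left {C : Type*} [Category* C] {X Y Z W X' : C} {j : X ⟶ Y} {f : X ⟶ Z} {g : Y ⟶ W}
    {h : Z ⟶ W} (sq : IsPullback j f g h) (e : X' ≅ X) (f' : X' ⟶ Z) (hf : e.hom ≫ f = f') :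
    IsPullback (e.hom ≫ j) f' g h := by
  subst hf
  exact IsPullback.of_iso sq e.symm (Iso.refl _) (Iso.refl _) (Iso.refl _) (by simp) (by simp) (by simp) (by simp)

/-- The morphism from the scheme family to `A`. -/
noncomputable def schFamHom : (toSpFam S n).obj (schFam A sq) ⟶ A where
  base := A.ptHom g
  top := (yon S).map (totIso A sq).hom ≫ j
  cart := isPullback_of_iso_left sq ((yon S).mapIso (totIso A sq)) ((yon S).map (schFam A sq).fOver)
    (map_totIso_hom_fibHom A sq)
  w_sect k := map_sectOver_totIso A sq k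

end SchFam

/-- Existence of scheme realisations of geometric fibres transfers along morphisms of families. -/
theorem exists_square_of_hom {A B : SpFamObj S n} (φ : B ⟶ A) {T' : Scheme.{u}} (t' : T' ⟶ B.base.left)
    (h : ∃ (X' : Scheme.{u}) (q : X' ⟶ T') (i : (yon S).obj (B.ptOver (q ≫ t')) ⟶ B.X),
      IsPullback i ((yon S).map (B.fibHom t' q)) B.f ((yon S).map (B.ptHom t'))) :
    ∃ (X' : Scheme.{u}) (q : X' ⟶ T') (i : (yon S).obj (A.ptOver (q ≫ t' ≫ φ.base.left)) ⟶ A.X),
      IsPullback i ((yon S).map (A.fibHom (t' ≫ φ.base.left) q)) A.f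
        ((yon S).map (A.ptHom (t' ≫ φ.base.left))) := by
  obtain ⟨X', q, i, sq⟩ := h
  exact ⟨X', q, _, isPullback_hom φ sq⟩

/-- A scheme family has scheme fibres. -/
theorem exists_square_toSpFam (A : PtFamObj S n) {T' : Scheme.{u}} (t : T' ⟶ A.base.left) :
    ∃ (X' : Scheme.{u}) (q : X' ⟶ T')
      (i : (yon S).obj (((toSpFam S n).obj A).ptOver (q ≫ t)) ⟶ ((toSpFam S n).obj A).X),
      IsPullback i ((yon S).map (((toSpFam S n).obj A).fibHom t q)) ((toSpFam S n).obj A).f
        ((yon S).map (((toSpFam S n).obj A).ptHom t)) :=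
  ⟨pullback A.f t, pullback.snd A.f t, _, K903.GeomFib.isPullback_yon A (IsPullback.of_hasPullback A.f t)⟩

theorem exists_lift_geomPt {T T' : Scheme.{u}} (g : T' ⟶ T) [Etale g] {Ω : Type u} [Field Ω] [IsAlgClosed Ω]
    (t : Spec (CommRingCat.of Ω) ⟶ T) (v : T') (h : t.base (IsLocalRing.closedPoint Ω) = g v) :
    ∃ t' : Spec (CommRingCat.of Ω) ⟶ T', t' ≫ g = t ∧ t'.base (IsLocalRing.closedPoint Ω) = v := by
  have hs : IsSepClosed Ω := inferInstance
  have hd : (default : Spec (CommRingCat.of Ω)) = IsLocalRing.closedPoint Ω := Subsingleton.elim _ _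
  obtain ⟨l, h1, h2⟩ := Scheme.exists_fac_of_etale_of_isSepClosed g t v (by rw [hd]; exact h.symm)
  rw [hd] at h2
  exact ⟨l, h1, h2⟩

theorem hasSchFibres_of_etLocSch {A : SpFamObj S n} (hA : EtLocSch A) : HasSchFibres A := by
  intro Ω _ _ t
  obtain ⟨T', g, v, X', q, j, hg, hv, sq⟩ := hA (t.base (IsLocalRing.closedPoint Ω))
  obtain ⟨t', rfl, -⟩ := exists_lift_geomPt g t v hv.symm
  exact exists_square_of_hom (schFamHom A sq) t' (exists_square_toSpFam (schFam A sq) t')

/-- The set of points over which all geometric fibres satisfy `P`. -/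
def locus (P : FibProp.{u} n) (A : SpFamObj S n) : Set A.base.left :=
  {s | ∀ (Ω : Type u) [Field Ω] [IsAlgClosed Ω] (t : Spec (CommRingCat.of Ω) ⟶ A.base.left),
    t.base (IsLocalRing.closedPoint Ω) = s → GeomFibAt P A t}

theorem mem_locus_iff_of_etale {P : FibProp.{u} n} {A B : SpFamObj S n} (φ : B ⟶ A) [Etale φ.base.left]
    (v : B.base.left) : v ∈ locus P B ↔ φ.base.left v ∈ locus P A := by
  constructor
  · intro h Ω _ _ t ht
    obtain ⟨t', rfl, h2⟩ := exists_lift_geomPt φ.base.left t v ht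
    exact (geomFibAt_iff_of_hom φ t').1 (h Ω t' h2)
  · intro h Ω _ _ t' ht'
    refine (geomFibAt_iff_of_hom φ t').2 (h Ω _ ?_)
    rw [← ht']
    rfl

/-- Openness of the locus of a condition on the geometric fibres reduces to scheme families. -/
theorem isOpen_locus_of_etLocSch (P : FibProp.{u} n) {A : SpFamObj S n} (hA : IsCurveFam A) (hE : EtLocSch A)
    (H : ∀ B : PtFamObj S n, Flat B.f → IsProper B.f → LocallyOfFinitePresentation B.f →
      (∀ x, FlatMor.fibreDimAt B.f x ≤ ((1 : ℕ) : WithBot ℕ∞)) → IsOpen (locus P ((toSpFam S n).obj B))) :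
    IsOpen (locus P A) := by
  rw [isOpen_iff_forall_mem_open]
  intro s hs
  obtain ⟨T', g, v, X', q, j, hg, rfl, sq⟩ := hE s
  obtain ⟨f1, f2, f3, f4⟩ := SchFib.facts hA sq
  have hO := H (schFam A sq) f1 f2 f3 f4
  have hg' : Etale (schFamHom A sq).base.left := hg
  refine ⟨g '' (locus P ((toSpFam S n).obj (schFam A sq))), ?_, g.isOpenMap _ hO, ?_⟩
  · rintro _ ⟨w, hw, rfl⟩
    exact (mem_locus_iff_of_etale (schFamHom A sq) w).1 hw
  · exact ⟨v, (mem_locus_iff_of_etale (schFamHom A sq) v).2 hs, rfl⟩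

/-- Descent of `P` along extensions of algebraically closed fields, for proper schemes of dimension at most one. -/
def ExtDesc (P : FibProp.{u} n) : Prop :=
  ∀ (Ω Ω' : Type u) [Field Ω] [IsAlgClosed Ω] [Field Ω'] [IsAlgClosed Ω']
    (e : Spec (CommRingCat.of Ω') ⟶ Spec (CommRingCat.of Ω)) (X X' : Scheme.{u}) (q : X ⟶ Spec (CommRingCat.of Ω))
    (q' : X' ⟶ Spec (CommRingCat.of Ω')) (i : X' ⟶ X) (σ : Fin n → (Spec (CommRingCat.of Ω) ⟶ X))
    (hσ : ∀ k, σ k ≫ q = 𝟙 _) (_ : IsProper q) (_ : ∀ x, FlatMor.fibreDimAt q x ≤ ((1 : ℕ) : WithBot ℕ∞))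
    (hP : IsPullback i q' q e), P Ω' X' q' (markedPt σ hσ hP) →
      P Ω X q (fun k => (σ k).base (IsLocalRing.closedPoint Ω))

theorem spMarkedPt_eq_sec (A : SpFamObj S n) {Ω : Type u} [Field Ω] {t : Spec (CommRingCat.of Ω) ⟶ A.base.left}
    {X' : Scheme.{u}} {q : X' ⟶ Spec (CommRingCat.of Ω)} {i : (yon S).obj (A.ptOver (q ≫ t)) ⟶ A.X}
    (hP : IsPullback i ((yon S).map (A.fibHom t q)) A.f ((yon S).map (A.ptHom t))) :
    A.spMarkedPt hP = fun k => ((schFam A hP).sect k).base (IsLocalRing.closedPoint Ω) := rfl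

/-- Descent of the condition on a geometric fibre along an extension of algebraically closed fields. -/
theorem geomFibAt_of_ext {P : FibProp.{u} n} (hD : ExtDesc P) {A : SpFamObj S n} (hA : IsCurveFam A)
    {Ω Ω' : Type u} [Field Ω] [IsAlgClosed Ω] [Field Ω'] [IsAlgClosed Ω']
    (t : Spec (CommRingCat.of Ω) ⟶ A.base.left) (e : Spec (CommRingCat.of Ω') ⟶ Spec (CommRingCat.of Ω))
    (h : GeomFibAt P A (e ≫ t)) : GeomFibAt P A t := by
  intro X' q i hP
  obtain ⟨-, f2, -, f4⟩ := SchFib.facts hA hP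
  have h1 : GeomFibAt P ((toSpFam S n).obj (schFam A hP)) e := (geomFibAt_iff_of_hom (schFamHom A hP) e).2 h
  rw [geomFibAt_toSpFam_iff] at h1
  rw [spMarkedPt_eq_sec]
  exact hD Ω Ω' e X' _ q _ _ _ (schFam A hP).sect_f f2 f4 (IsPullback.of_hasPullback q e)
    (h1 _ _ _ (IsPullback.of_hasPullback q e))

/-- A common geometric point. -/
theorem exists_common_ext {T T' : Scheme.{u}} (g : T' ⟶ T) (b : T') {Ω : Type u} [Field Ω] [IsAlgClosed Ω]
    (t : Spec (CommRingCat.of Ω) ⟶ T) (h : t.base (IsLocalRing.closedPoint Ω) = g b) :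
    ∃ (Ω' : Type u) (_ : Field Ω') (_ : IsAlgClosed Ω') (e : Spec (CommRingCat.of Ω') ⟶ Spec (CommRingCat.of Ω))
      (t' : Spec (CommRingCat.of Ω') ⟶ T'), e ≫ t = t' ≫ g ∧ t'.base (IsLocalRing.closedPoint Ω') = b := by
  obtain ⟨z, -, hz2⟩ := Scheme.Pullback.exists_preimage_pullback (f := t) (g := g) (IsLocalRing.closedPoint Ω) b h
  obtain ⟨Ω', i1, i2, u, hu⟩ := exists_geomPt z
  refine ⟨Ω', i1, i2, u ≫ pullback.fst _ _, u ≫ pullback.snd _ _, ?_, ?_⟩
  · rw [Category.assoc, Category.assoc, pullback.condition]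
  · rw [← hz2, ← hu]
    rfl

theorem locus_of_geomFib_of_hom {P : FibProp.{u} n} (hD : ExtDesc P) {A B : SpFamObj S n} (hA : IsCurveFam A)
    (φ : B ⟶ A) (b : B.base.left) (h : ∀ (Ω : Type u) [Field Ω] [IsAlgClosed Ω] (t' : Spec (CommRingCat.of Ω) ⟶ B.base.left),
      t'.base (IsLocalRing.closedPoint Ω) = b → GeomFibAt P B t') : φ.base.left b ∈ locus P A := by
  intro Ω _ _ t ht
  obtain ⟨Ω', _, _, e, t', h1, h2⟩ := exists_common_ext φ.base.left b t ht
  apply geomFibAt_of_ext hD hA t e
  rw [h1]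
  exact (geomFibAt_iff_of_hom φ t').1 (h Ω' t' h2)

theorem mem_locus_iff_of_hom {P : FibProp.{u} n} (hD : ExtDesc P) {A B : SpFamObj S n} (hA : IsCurveFam A)
    (φ : B ⟶ A) (b : B.base.left) : b ∈ locus P B ↔ φ.base.left b ∈ locus P A := by
  constructor
  · intro h
    exact locus_of_geomFib_of_hom hD hA φ b (fun Ω _ _ t' ht' => h Ω t' ht')
  · intro h Ω _ _ t' ht'
    refine (geomFibAt_iff_of_hom φ t').2 (h Ω _ ?_)
    rw [← ht']
    rfl

/-- `GeomFib P` has an open locus in the stack of curves. -/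
theorem hasOpenLocus_of_isOpen {P : FibProp.{u} n} (hD : ExtDesc P)
    (H : ∀ A : (Curves S n).obj, IsOpen (locus P A.obj)) :
    K899.OpenCrit.HasOpenLocus (𝒳 := Curves S n) (fun A => GeomFib P A.obj) := by
  intro x
  refine ⟨⟨locus P x.obj, H x⟩, fun y φ => ?_⟩
  constructor
  · rintro h _ ⟨b, rfl⟩
    have h' := geomFib_iff.1 h
    exact locus_of_geomFib_of_hom hD x.property φ.hom b (fun Ω _ _ t' _ => h' Ω t')
  · intro h
    refine geomFib_iff.2 fun Ω _ _ t' => ?_
    exact (geomFibAt_iff_of_hom φ.hom t').2 (h ⟨t'.base (IsLocalRing.closedPoint Ω), rfl⟩ Ω _ rfl)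

/-- `GeomFib P` has an open locus in the stack of curves, if its locus is open for families with scheme total space. -/
theorem hasOpenLocus {P : FibProp.{u} n} (hD : ExtDesc P) (hE : ∀ A : (Curves S n).obj, EtLocSch A.obj)
    (H : ∀ B : PtFamObj S n, Flat B.f → IsProper B.f → LocallyOfFinitePresentation B.f →
      (∀ x, FlatMor.fibreDimAt B.f x ≤ ((1 : ℕ) : WithBot ℕ∞)) → IsOpen (locus P ((toSpFam S n).obj B))) :
    K899.OpenCrit.HasOpenLocus (𝒳 := Curves S n) (fun A => GeomFib P A.obj) :=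
  hasOpenLocus_of_isOpen hD fun A => isOpen_locus_of_etLocSch P A.property (hE A) H

end K901.EtSch
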