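import Groth.Agent.CurvSt.K901.DualModel
import Groth.Agent.CurvSt.K901.LociDim
import Groth.Agent.Deform.K682.RelDual
import Groth.Agent.Dual.K174.AdjCM
import Groth.Agent.Dual.H320.GorShriek
import Groth.Agent.Dual.H349.Bridge
import Groth.Agent.PerfB.LimModInv

/-!
# The relative dualizing sheaf of a proper flat Gorenstein family over an affine base

* `exists_isRD_noeth`: over a Noetherian base (with the pointwise dimension condition);
* `exists_isRD_affine`: over an arbitrary affine base.
-/

set_option autoImplicit false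
universe u
open CategoryTheory CategoryTheory.Limits AlgebraicGeometry
attribute [local instance] HasDerivedCategory.standard

namespace K901.DualAff

open Groth.Agent K901.Loci Groth.Agent.Ega1.ADualUniv K682.RelDual

theorem LocusProp.and {R R' : PtProp.{u}} (h : LocusProp R) (h' : LocusProp R') :
    LocusProp (fun _ _ f x => R f x ∧ R' f x) where
  isOpen X Y f _ _ := (h.isOpen f).inter (h'.isOpen f)
  baseChange X Y X' Y' f f' g' g _ _ hsq x' :=
    and_congr (h.baseChange f f' g' g hsq x') (h'.baseChange f f' g' g hsq x')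
  source U X Y a f _ _ _ u := and_congr (h.source a f u) (h'.source a f u)

/-- Gorenstein of relative dimension `n` at a point. -/
def GorDim (n : ℕ) : PtProp.{u} := fun _ _ f x =>
  Dual3.IsGorensteinAt f x ∧ FlatMor.fibreDimAt f x = ((n : ℕ) : WithBot ℕ∞)

theorem locusProp_gorDim (n : ℕ) : LocusProp.{u} (GorDim n) := by
  have h := LocusProp.and locusProp_gor.{u} (locusProp_cmDim n)
  have h1 : GorDim.{u} n = fun _ _ f x => Dual3.IsGorensteinAt f x ∧
      (MoreMor.IsCMAt f x ∧ FlatMor.fibreDimAt f x = ((n : ℕ) : WithBot ℕ∞)) := by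
    funext X Y f x
    refine propext ⟨fun ⟨a, b⟩ => ⟨a, Dual.H373.Core.isCMAt_of_isGorensteinAt f x a, b⟩, fun ⟨a, _, b⟩ => ⟨a, b⟩⟩
  rw [h1]
  exact h

section Noeth

variable {X Y : Scheme.{u}} [IsNoetherian Y] (f : X ⟶ Y) [Flat f] [IsProper f] [DCoh.HasRpush f]

/-- Over a Noetherian base the universal object of a Gorenstein morphism is locally a shift of the structure sheaf. -/
theorem invAt {K : DCoh.D Y} (eK : K ≅ DCoh.inD Y (Coh.structureModule Y)) {M : DCoh.D X} (hM : Univ f K M)
    (x : X) (hx : Dual3.IsGorensteinAt f x) : Dual.H320.InvPt.InvAt M x := by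
  refine (Dual.H320.GorShriek.isGorensteinAt_iff_invAt f M ?_ x).1 hx
  intro V hV U hU e n ψ hψ _ _ Rψ adjψ
  let _ : Algebra Γ(Y, V) Γ(X, U) := (f.appLE V U e).hom.toAlgebra
  have hj : IsOpenImmersion hU.fromSpec := hU.isOpenImmersion_fromSpec
  have hj' : IsOpenImmersion hV.fromSpec := hV.isOpenImmersion_fromSpec
  exact Dual.H349.Bridge.bridge f eK hM hU.fromSpec hV.fromSpec
    (f.appLE V U e) (by rw [IsAffineOpen.SpecMap_appLE_fromSpec]) n ψ.toRingHom hψ
    (by ext r; exact ψ.commutes r) adjψ

theorem exists_isRD_noeth (n : ℕ) (h : ∀ x, GorDim n f x) :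
    ∃ L : X.Modules, PicF.IsInvertible L ∧ IsRD f n L := by
  have hX : IsNoetherian X := LoccohB.AdStruct.isNoetherian_of_finiteType f
  have hf : DCoh.RpushPreservesQCoh f := fun K hK => S0998.result f K hK
  have hs : DCoh.HasShriek f hf := S1766.result X Y f hf
  have hq : DCoh.IsQCohD (DCoh.inD Y (Coh.structureModule Y)) :=
    PerfA.QCohD.isQCohD_inD _ (Fdesc.StructMod.isQCoh_structureModule Y)
  let O : DCoh.DQCoh Y := ⟨DCoh.inD Y (Coh.structureModule Y), hq⟩
  have hu : Univ f O.obj ((DCoh.shriek f hf).obj O).obj := univ_of_adj (h := hf) (DCoh.shriekAdj f hf) O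
  have hlfp : LocallyOfFinitePresentation f := inferInstance
  have hz := K174.AdjCM.isZero_HD_of_noeth f (Iso.refl _) hu
    (fun x => Dual.H373.Core.isCMAt_of_isGorensteinAt f x (h x).1) n (fun x => (h x).2)
  obtain ⟨e2⟩ := nonempty_iso_shift n hz
  refine ⟨_, isInvertible_HD (fun x => invAt f (Iso.refl _) hu x (h x).1) n hz, ?_⟩
  exact hu.of_iso_left e2 (PerfA.QCohD.isQCohD_of_iso e2 hu.qcoh)

end Noeth

/-- Over an affine base: a proper flat morphism locally of finite presentation with Gorenstein fibres of pure dimension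
`n` has an invertible relative dualizing sheaf. -/
theorem exists_isRD_affine {A : Type u} [CommRing A] {X : Scheme.{u}} (f : X ⟶ Spec (CommRingCat.of A)) [Flat f]
    [IsProper f] [LocallyOfFinitePresentation f] [DCoh.HasRpush f] (n : ℕ) (h : ∀ x, GorDim n f x) :
    ∃ L : X.Modules, PicF.IsInvertible L ∧ IsRD f n L := by
  obtain ⟨B, X₀, f₀, v, sq, h1, h2, h3, h4⟩ := DualModel.exists_model (locusProp_gorDim n) f h
  have hB : IsNoetherianRing B.1 := DualModel.isNoetherianRing_idx B
  have hB' : IsNoetherian (Spec (CommRingCat.of B.1)) := inferInstance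
  have hr : DCoh.HasRpush f₀ := Dcoh.DerSch.hasRpush f₀
  obtain ⟨L, hL, hL'⟩ := exists_isRD_noeth f₀ n h4
  have c1 : CompactSpace X := QuasiCompact.compactSpace_of_compactSpace f
  have c2 : QuasiSeparatedSpace X := quasiSeparatedSpace_of_quasiSeparated f
  have c3 : CompactSpace X₀ := QuasiCompact.compactSpace_of_compactSpace f₀
  have c4 : QuasiSeparatedSpace X₀ := quasiSeparatedSpace_of_quasiSeparated f₀
  refine ⟨(Scheme.Modules.pullback v).obj L, ?_, IsRD.baseChange sq hL hL'⟩
  exact PerfB.LimMod.isInvertible_pullback _ hL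

end K901.DualAff
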