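import Groth.Agent.CurvSt.K901.LociGeomAt
import Groth.Agent.S2549
import Groth.Agent.S2567
import Groth.Agent.S2521
import Groth.Agent.S1628

/-!
The locus of points where the fibre is geometrically reduced: `K901.Loci.locusProp_red`.
-/

set_option autoImplicit false
universe u

open AlgebraicGeometry CategoryTheory CategoryTheory.Limits

namespace K901.Loci

open Groth.Agent Groth.Agent.Ega43.GeomAt Groth.Agent.Ega43.GeomBC

/-- The fibre of `f` is geometrically reduced at `x`. -/
abbrev GeomRed : PtProp.{u} := fun _ _ f x => GeomAt (fun R _ => _root_.IsReduced R) f x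

theorem isoClosed_red : IsoClosed.{u} (fun R _ => _root_.IsReduced R) :=
  Groth.Agent.Ega43.GeomRedMain.isoClosed_isReduced

theorem flatDesc_red : FlatDesc.{u} (fun R _ => _root_.IsReduced R) := by
  intro X Y g _ x h
  have h1 : (g.stalkMap x).hom.Flat := Flat.stalkMap g x
  algebraize [(g.stalkMap x).hom]
  have hl : IsLocalHom (algebraMap (Y.presheaf.stalk (g x)) (X.presheaf.stalk x)) :=
    inferInstanceAs (IsLocalHom (g.stalkMap x).hom)
  have := Module.FaithfullyFlat.of_flat_of_isLocalHom
    (A := Y.presheaf.stalk (g x)) (B := X.presheaf.stalk x)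
  have : _root_.IsReduced (X.presheaf.stalk x) := h
  exact isReduced_of_injective (algebraMap (Y.presheaf.stalk (g x)) (X.presheaf.stalk x))
    (FaithfulSMul.algebraMap_injective _ _)

theorem geomRed_of_smooth {X Y : Scheme.{u}} (f : X ⟶ Y) [Smooth f] (x : X) : GeomRed f x := by
  intro K _ Z a b j hpb z _
  have : Smooth b := MorphismProperty.of_isPullback hpb inferInstance
  exact S1628.isReduced_stalk_of_smooth b z

theorem etAsc_red : EtAsc.{u} (fun R _ => _root_.IsReduced R) := by
  intro X Y g _ _ x h
  exact S2567.result g x h ((geomAt_fiber_iff isoClosed_red g x).2 (geomRed_of_smooth g x))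

theorem locusProp_red : LocusProp.{u} GeomRed :=
  locusProp_geomAt flatDesc_red etAsc_red fun X Y f _ _ => by
    have h := S2549.result f
    have e : {x : X | FBase.IsGeomReducedAt (f.fiberToSpecResidueField (f.base x)) (f.asFiber x)} =
        {x : X | GeomRed f x} := by
      ext x
      exact geomAt_fiber_iff isoClosed_red f x
    rwa [e] at h

/-- Over an algebraically closed field geometrically reduced everywhere is the same as reduced. -/
theorem geomRed_iff_isReduced {Ω : Type u} [Field Ω] [IsAlgClosed Ω] {X : Scheme.{u}}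
    (q : X ⟶ Spec (CommRingCat.of Ω)) : (∀ x, GeomRed q x) ↔ IsReduced X := by
  constructor
  · intro h
    have h1 : ∀ x : X, _root_.IsReduced (X.presheaf.stalk x) := fun x =>
      h x Ω X (𝟙 X) q (𝟙 _) (IsPullback.of_horiz_isIso ⟨by simp⟩) x rfl
    exact isReduced_of_isReduced_stalk X
  · intro _ x
    have h2 : IsPullback (𝟙 X) q q (𝟙 _) := IsPullback.of_horiz_isIso ⟨by simp⟩
    have h3 : FBase.IsGeomReducedAt q x := by
      let _ : Algebra Ω Ω := Algebra.id Ω
      have h4 : Spec.map (CommRingCat.ofHom (algebraMap Ω Ω)) = 𝟙 _ := Spec.map_id _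
      have h5 : IsIso (FBase.bcπ q Ω) := by
        have : IsIso (Spec.map (CommRingCat.ofHom (algebraMap Ω Ω))) := by rw [h4]; infer_instance
        exact inferInstanceAs (IsIso (pullback.fst q (Spec.map (CommRingCat.ofHom (algebraMap Ω Ω)))))
      obtain ⟨x', hx'⟩ := (FBase.bcπ q Ω).surjective x
      refine S2521.result (Ω := Ω) q x x' hx' ?_
      have h6 := (stalk_iff_of_isOpenImmersion isoClosed_red (FBase.bcπ q Ω) x').1 (by
        dsimp only; infer_instance)
      exact h6
    have h7 := (schFieldAt_iff_of_isPullback (k := Ω) isoClosed_red h2 (fun a b h => h) x (by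
      intro K _ j t _
      refine ⟨(Spec.preimage j).hom, ?_⟩
      rw [Category.comp_id]
      exact (Spec.map_preimage j).symm)).1 ((isGeomReducedAt_iff q x).1 h3)
    exact h7

end K901.Loci
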