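import Groth.Agent.CurvSt.K901.SchPre
import Groth.Agent.CurvSt.K901.LociRed
import Groth.Agent.CurvesB.CMDimOne
import Groth.Agent.CurvesB.DimPts
import Groth.Agent.FlatA.FibreDim
import Groth.Agent.TopDim.K284.Basic

/-!
Openness of the locus of reduced connected geometric fibres of dimension one, for families of schemes.

* `K901.SchRed.fibreDimAt_field`: the relative dimension at a point of a scheme over a field.
* `K901.SchRed.forall_of_reduced_connected`, `dim_eq_one_of_forall`.
* `redConn_iff`, `isOpen_redConn`, `extDesc_redConn`.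
-/

set_option autoImplicit false

universe u

open CategoryTheory CategoryTheory.Limits AlgebraicGeometry Opposite

namespace K901.SchRed

open CurvSt AlgSp K901.GeomFibAt K901.GeomLoc K901.EtSch K901.Loci K901.SchLoc K901.SchPre
open Groth.Agent

theorem fibreDimAt_field {K : Type u} [Field K] {X : Scheme.{u}} (q : X ⟶ Spec (CommRingCat.of K)) (x : X) :
    FlatMor.fibreDimAt q x = FlatMor.localDim X x := by
  have hu : (q : X → Spec (CommRingCat.of K)) ⁻¹' {q x} = Set.univ := by
    ext y
    simp only [Set.mem_preimage, Set.mem_singleton_iff, Set.mem_univ, iff_true]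
    exact Subsingleton.elim _ _
  rw [FlatA.FibreDim.fibreDimAt_eq]
  have ho : Topology.IsOpenEmbedding (Subtype.val : ((q : X → Spec (CommRingCat.of K)) ⁻¹' {q x}) → X) := by
    refine IsOpen.isOpenEmbedding_subtypeVal ?_
    rw [hu]
    exact isOpen_univ
  exact VarietyB.DimTop.localDim_eq_of_isOpenEmbedding ho ⟨x, rfl⟩

/-- In a connected Noetherian Jacobson space of dimension one all local dimensions are one. -/
theorem localDim_eq_one {X : Type*} [TopologicalSpace X] [TopologicalSpace.NoetherianSpace X] [T0Space X]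
    [ConnectedSpace X] [JacobsonSpace X] (h : topologicalKrullDim X = 1) (x : X) : FlatMor.localDim X x = 1 := by
  have h1 : FlatMor.localDim X x ≤ 1 := (K284.TopDim.localDim_le_dim x).trans h.le
  have h2 : 0 ≤ FlatMor.localDim X x := K284.TopDim.localDim_nonneg x
  have h3 : FlatMor.localDim X x ≠ 0 := by
    intro h0
    have ho := (K284.TopDim.isOpen_singleton_iff_localDim_eq_zero x).2 h0
    have hc : IsClosed ({x} : Set X) := isClosed_singleton_of_isLocallyClosed_singleton ho.isLocallyClosed
    have hu : ({x} : Set X) = Set.univ := IsClopen.eq_univ ⟨hc, ho⟩ ⟨x, rfl⟩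
    have hs : Subsingleton X := by
      refine ⟨fun a b => ?_⟩
      have ha : a ∈ ({x} : Set X) := by rw [hu]; trivial
      have hb : b ∈ ({x} : Set X) := by rw [hu]; trivial
      rw [Set.mem_singleton_iff] at ha hb
      rw [ha, hb]
    have h4 : topologicalKrullDim X ≤ 0 := by
      have : DiscreteTopology X := Subsingleton.discreteTopology
      exact topologicalKrullDim_zero_of_discreteTopology X
    rw [h] at h4
    exact absurd h4 (by decide)
  cases hd : FlatMor.localDim X x with
  | bot => rw [hd] at h2; exact absurd h2 (by simp)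
  | coe m =>
    rw [hd] at h1 h2 h3
    have h5 : m ≤ 1 := by exact_mod_cast h1
    have h6 : m ≠ 0 := fun h => h3 (by rw [h]; rfl)
    have h7 : m = 1 := le_antisymm h5 (Order.one_le_iff_pos.2 (pos_iff_ne_zero.2 h6))
    rw [h7]
    rfl

/-- A reduced Noetherian local ring of dimension at most one is Cohen-Macaulay. -/
theorem cm_of_reduced (A : Type u) [CommRing A] [IsLocalRing A] [IsNoetherianRing A] [_root_.IsReduced A]
    (h : ringKrullDim A ≤ 1) : LocCoh.IsCohenMacaulayLocalRing A := by
  by_cases h0 : ringKrullDim A = 0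
  · exact CurvesB.CMDimOne.of_dim_zero A h0
  · refine CurvesB.CMDimOne.of_dim_one A h fun a ha => ?_
    by_cases hu : a ∈ IsLocalRing.maximalIdeal A
    · exact pow_eq_zero_iff (n := 2) (by norm_num) |>.1 (by rw [pow_two]; exact ha a hu)
    · exfalso
      have hu' : IsUnit a := by
        by_contra hc
        exact hu ((IsLocalRing.mem_maximalIdeal a).2 hc)
      apply h0
      have hF : IsField A := by
        rw [IsLocalRing.isField_iff_maximalIdeal_eq, eq_bot_iff]
        intro m hm
        have := ha m hm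
        exact (hu'.mul_left_eq_zero).1 this
      exact ringKrullDim_eq_zero_of_isField hF

/-- Pointwise Cohen-Macaulay of relative dimension one. -/
abbrev CMOne : PtProp.{u} := fun _ _ f x => MoreMor.IsCMAt f x ∧ FlatMor.fibreDimAt f x = ((1 : ℕ) : WithBot ℕ∞)

theorem forall_of_reduced_connected {K : Type u} [Field K] {X : Scheme.{u}} (q : X ⟶ Spec (CommRingCat.of K))
    [IsProper q] (hred : GeometricallyReduced q) [ConnectedSpace X] (h : topologicalKrullDim X = 1) (x : X) :
    CMOne q x := by
  have hN : IsNoetherian X := CurvesB.NodalFibreH.isNoetherian_of_isProper K X q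
  have hJ : JacobsonSpace X := LocallyOfFiniteType.jacobsonSpace q
  refine ⟨⟨Flat.stalkMap q x, ?_⟩, ?_⟩
  · have h1 : IsProper (q.fiberToSpecResidueField (q x)) :=
      MorphismProperty.pullback_snd (P := @IsProper) q ((Spec (CommRingCat.of K)).fromSpecResidueField (q x)) inferInstance
    have h2 : IsNoetherian (q.fiber (q x)) :=
      @CurvesB.NodalFibreH.isNoetherian_of_isProper ((Spec (CommRingCat.of K)).residueField (q x)) _
        (q.fiber (q x)) (q.fiberToSpecResidueField (q x)) h1
    have h3 : IsReduced (q.fiber (q x)) := inferInstance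
    have h4 : topologicalKrullDim (q.fiber (q x)) ≤ 1 := by
      rw [← h]
      exact (q.fiberι (q x)).isEmbedding.isInducing.topologicalKrullDim_le
    exact cm_of_reduced _ ((CurvesB.DimPts.ringKrullDim_stalk_le _).trans h4)
  · rw [fibreDimAt_field, localDim_eq_one h]
    rfl

theorem dim_eq_one_of_forall {K : Type u} [Field K] {X : Scheme.{u}} (q : X ⟶ Spec (CommRingCat.of K))
    [Nonempty X] (h : ∀ x, CMOne q x) : topologicalKrullDim X = 1 := by
  rw [K284.TopDim.dim_eq_iSup_localDim]
  have h1 : ∀ x : X, FlatMor.localDim X x = 1 := fun x => by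
    rw [← fibreDimAt_field q x, (h x).2]
    rfl
  simp only [h1, ciSup_const]

section Fam

variable {n : ℕ}

/-- Reduced, connected, of dimension one. -/
abbrev RedConnProp (n : ℕ) : FibProp.{u} n := fun _ _ _ X' _ _ =>
  IsReduced X' ∧ ConnectedSpace ↥X' ∧ topologicalKrullDim ↥X' = 1

variable {C T : Scheme.{u}} (f : C ⟶ T) (σ : Fin n → (T ⟶ C)) (hσ : ∀ i, σ i ≫ f = 𝟙 T)

/-- The points over which the fibre is geometrically reduced. -/
def RedSet : Set T := {s | ∀ x, f x = s → GeomRed f x}

/-- The points over which the fibre is Cohen-Macaulay of pure dimension one. -/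
def CMOneSet : Set T := {s | ∀ x, f x = s → CMOne f x}

variable [Flat f] [IsProper f] [LocallyOfFinitePresentation f]

theorem isOpen_redSet : IsOpen (RedSet f) := isOpen_fib locusProp_red f

theorem isOpen_cmOneSet : IsOpen (CMOneSet f) := isOpen_fib (locusProp_cmDim 1) f

omit [IsProper f] in
theorem redSet_iff {Ω : Type u} [Field Ω] [IsAlgClosed Ω] {t : Spec (CommRingCat.of Ω) ⟶ T}
    {X' : Scheme.{u}} {i : X' ⟶ C} {q : X' ⟶ Spec (CommRingCat.of Ω)} (hP : IsPullback i q f t) :
    IsReduced X' ↔ t.base (IsLocalRing.closedPoint Ω) ∈ RedSet f := by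
  rw [← geomRed_iff_isReduced q]
  exact forall_iff_of_isPullback locusProp_red hP

omit [IsProper f] [Flat f] [LocallyOfFinitePresentation f] in
theorem geometricallyReduced_of_mem_redSet {s : T} (hs : s ∈ RedSet f) :
    GeometricallyReduced (f.fiberToSpecResidueField s) := by
  refine ⟨fun K _ y Z fst snd hZ => ?_⟩
  have h1 : ∀ z : Z, _root_.IsReduced (Z.presheaf.stalk z) := by
    intro z
    have h2 : IsPullback (fst ≫ f.fiberι s) snd f (y ≫ T.fromSpecResidueField s) :=
      hZ.paste_horiz (IsPullback.of_hasPullback _ _)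
    refine hs ((fst ≫ f.fiberι s) z) ?_ K Z _ _ _ h2 z rfl
    have h3 : f ((fst ≫ f.fiberι s) z) = (y ≫ T.fromSpecResidueField s) (snd z) := by
      rw [← Scheme.Hom.comp_apply, h2.w, Scheme.Hom.comp_apply]
    rw [h3, Scheme.Hom.comp_apply]
    exact Scheme.fromSpecResidueField_apply _ _
  exact isReduced_of_isReduced_stalk Z

/-- The points over which the fibre is geometrically reduced, geometrically connected and of dimension one. -/
def RedConnSet : Set T := (RedSet f ∩ {s | MoreMor.nGeomConnComp f s = 1}) ∩ CMOneSet f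

theorem isOpen_redConnSet : IsOpen (RedConnSet f) :=
  (isOpen_conn f (isOpen_redSet f) fun _ hs => geometricallyReduced_of_mem_redSet f hs).inter (isOpen_cmOneSet f)

theorem redConn_iff {Ω : Type u} [Field Ω] [IsAlgClosed Ω] {t : Spec (CommRingCat.of Ω) ⟶ T}
    {X' : Scheme.{u}} {i : X' ⟶ C} {q : X' ⟶ Spec (CommRingCat.of Ω)} (hP : IsPullback i q f t) (m : Fin n → X') :
    RedConnProp n Ω X' q m ↔ t.base (IsLocalRing.closedPoint Ω) ∈ RedConnSet f := by
  have hq : IsProper q := MorphismProperty.of_isPullback hP inferInstance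
  have hlfp : LocallyOfFinitePresentation q := MorphismProperty.of_isPullback hP inferInstance
  have h3 : (∀ x', CMOne q x') ↔ t.base (IsLocalRing.closedPoint Ω) ∈ CMOneSet f :=
    forall_iff_of_isPullback (locusProp_cmDim 1) hP
  constructor
  · rintro ⟨h4, h5, h6⟩
    refine ⟨⟨(redSet_iff f hP).1 h4, (connectedSpace_iff hP).1 h5⟩, h3.1 ?_⟩
    have h7 : GeometricallyReduced q := by
      have h8 : ∀ x, GeomRed q x := (geomRed_iff_isReduced q).2 h4
      refine ⟨fun K _ y Z fst snd hZ => ?_⟩
      have h1 : ∀ z : Z, _root_.IsReduced (Z.presheaf.stalk z) := fun z => h8 (fst z) K Z _ _ _ hZ z rfl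
      exact isReduced_of_isReduced_stalk Z
    exact forall_of_reduced_connected q h7 h6
  · rintro ⟨⟨h4, h5⟩, h6⟩
    have h7 := (connectedSpace_iff hP).2 h5
    exact ⟨(redSet_iff f hP).2 h4, h7, dim_eq_one_of_forall q (h3.2 h6)⟩

theorem loc_redConn : Loc (RedConnProp n) f σ hσ = RedConnSet f := by
  ext s
  refine mem_loc_iff_of f σ hσ _ fun Ω _ _ t ht X' i q hP => ?_
  rw [← ht]
  exact redConn_iff f hP _

theorem isOpen_redConn : IsOpen (Loc (RedConnProp n) f σ hσ) := by
  rw [loc_redConn]
  exact isOpen_redConnSet f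

theorem extDesc_redConn (n : ℕ) : ExtDesc (RedConnProp.{u} n) :=
  extDesc_of fun _ _ _ _ f _ _ _ _ _ => ⟨_, fun _ _ _ _ _ _ _ hP => redConn_iff f hP _⟩

end Fam

end K901.SchRed
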