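import Groth.Agent.CurvSt.K901.LocusOpen
import Groth.Agent.CurvSt.K899.CurveFam
import Groth.Agent.Sga5.ProjSmooth
import Groth.Agent.Ega3B.ProjProper
import Groth.Agent.S1535
import Groth.Agent.S2768

/-!
The projective line over `t : Spec Ω ⟶ S` as an object of the stack of curves; conditions on it.
-/

set_option autoImplicit false
universe u

open AlgebraicGeometry CategoryTheory CategoryTheory.Limits

namespace K901.P1Obj

open K901.Loci K901.LocusOpen AlgSp CurvSt Groth.Agent

variable {S : Scheme.{u}}

section LocP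

variable {R : PtProp.{u}}

/-- A flat morphism of schemes, locally of finite presentation with `R` everywhere, has `LocP`. -/
theorem locP_yon_map (hR : LocusProp R) {X Y : Over S} (f : X ⟶ Y) [Flat f.left] [LocallyOfFinitePresentation f.left]
    (h : ∀ x, R f.left x) : LocP (Everywhere R) ((yon S).map f) :=
  K902.LocSch.locP_yon_map_of (FlatFPWith R) (Everywhere R)
    (fun _ _ _ _ sq _ h' => (stableBC hR).of_isPullback sq h')
    (fun a f ha h' => ((etLoc hR).precomp a f ha h').2.2) f ⟨inferInstance, inferInstance, h⟩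

end LocP

/-- The local rings of the fibres of a smooth morphism are regular. -/
theorem isRegularLocalRing_fiber_stalk {X Y : Scheme.{u}} (f : X ⟶ Y) [Smooth f] (x : X) :
    IsRegularLocalRing ((f.fiber (f x)).presheaf.stalk (f.asFiber x)) := by
  let _ : (f.fiber (f x)).Over (Spec (CommRingCat.of (Y.residueField (f x)))) := ⟨f.fiberToSpecResidueField (f x)⟩
  have : Smooth (f.fiber (f x) ↘ Spec (CommRingCat.of (Y.residueField (f x)))) := by
    have h : Smooth (f.fiberToSpecResidueField (f x)) :=
      inferInstanceAs (Smooth (pullback.snd f (Y.fromSpecResidueField (f x))))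
    exact h
  exact S1535.result (Y.residueField (f x)) (f.fiber (f x)) (f.asFiber x)

/-- `FibLoc P` for smooth morphisms. -/
theorem fibLoc_of_smooth {P : ∀ (A : Type u) [CommRing A], Prop}
    (hP : ∀ (A : Type u) [CommRing A] [IsRegularLocalRing A], P A) {X Y : Scheme.{u}} (f : X ⟶ Y) [Smooth f] (x : X) :
    FibLoc P f x := by
  have h := isRegularLocalRing_fiber_stalk f x
  exact ⟨Flat.stalkMap f x, hP _⟩

section P1

variable {Ω : Type u} [Field Ω] (t : Spec (CommRingCat.of Ω) ⟶ S)

/-- The projective line over `t`, as an unpointed family of schemes. -/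
noncomputable def p1 : PtFamObj S 0 :=
  ⟨Over.mk t, CohB1.ProjSpace 1 Ω, CohB1.ProjSpace.toSpec 1 Ω, Fin.elim0, fun i => Fin.elim0 i⟩

theorem smooth_p1 : SmoothOfRelativeDimension 1 (p1 t).f := Sga5.ProjSmooth.smooth_toSpec 1 Ω

theorem smooth_p1' : Smooth (p1 t).f := SmoothOfRelativeDimension.smooth 1 (CohB1.ProjSpace.toSpec 1 Ω)

theorem proper_p1 : IsProper (p1 t).f := Ega3B.ProjProper.isProper_toSpec 1 Ω

theorem fibreDimAt_p1 (x : (p1 t).C) : FlatMor.fibreDimAt (p1 t).f x = ((1 : ℕ) : WithBot ℕ∞) := by
  have := smooth_p1 t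
  exact S2768.result 1 (p1 t).f x

/-- The projective line over `t` as an object of the stack of curves. -/
noncomputable def p1Curve : (Curves S 0).obj :=
  have := smooth_p1' t
  have := proper_p1 t
  K899.CurveFam.toCurves (p1 t) inferInstance inferInstance inferInstance fun x => by
    rw [fibreDimAt_p1]; exact le_refl _

theorem locP_p1 {R : PtProp.{u}} (hR : LocusProp R) (h : ∀ x, R (p1 t).f x) :
    LocP (Everywhere R) (p1Curve t).obj.f := by
  have := smooth_p1' t
  have h1 : Flat (p1 t).fOver.left := inferInstanceAs (Flat (p1 t).f)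
  have h2 : LocallyOfFinitePresentation (p1 t).fOver.left := inferInstanceAs (LocallyOfFinitePresentation (p1 t).f)
  exact locP_yon_map (S := S) hR (p1 t).fOver h

theorem nonempty_fiber (Q : (Curves S 0).obj → Prop) (h : Q (p1Curve t)) :
    Nonempty ((AlgSt.fullSub (Curves S 0) Q).p.Fiber (Over.mk t)) :=
  ⟨⟨⟨p1Curve t, h⟩, rfl⟩⟩

end P1

end K901.P1Obj
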