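import Groth.Agent.CurvSt.K901.GeomLoc
import Groth.Agent.CurvSt.K901.LociRed
import Groth.Agent.CurvSt.K901.LociSub
import Groth.Agent.CurvSt.K901.P1Obj

/-!
Rows S17294, S17297 from "geometric fibres of families of curves are schemes".
-/

set_option autoImplicit false
universe u

open AlgebraicGeometry CategoryTheory CategoryTheory.Limits CurvSt

namespace K901.RowsSch

open K901.Loci K901.LocusOpen K901.GeomLoc

variable {S : Scheme.{u}}

/-- A condition `P` on geometric fibres equivalent to a pointwise one and true for the projective line. -/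
theorem row {n : ℕ} {R : PtProp.{u}} (hR : LocusProp R) (hF : ∀ A : (Curves S n).obj, HasSchFibres A.obj)
    {P : ∀ (Ω : Type u) [Field Ω] [IsAlgClosed Ω] (X' : Scheme.{u}),
      (X' ⟶ Spec (CommRingCat.of Ω)) → (Fin n → ↥X') → Prop}
    (hP : ∀ (Ω : Type u) [Field Ω] [IsAlgClosed Ω] (X' : Scheme.{u}) (q : X' ⟶ Spec (CommRingCat.of Ω))
      (m : Fin n → ↥X'), IsProper q → (∀ x, FlatMor.fibreDimAt q x ≤ ((1 : ℕ) : WithBot ℕ∞)) →
        (P Ω X' q m ↔ ∀ x, R q x))
    (hC : AlgSt.IsAlgStack Scheme.fppfPrecoverage (CurvSt.Curves S n)) :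
    AlgSt.IsOpenSubstack (Curves S n) (fun A => GeomFib P A.obj) Scheme.fppfPrecoverage :=
  GeomLoc.isOpenSubstack hR hF hP hC

theorem s17294 (hF : ∀ A : (Curves S 0).obj, HasSchFibres A.obj)
    (hC : AlgSt.IsAlgStack Scheme.fppfPrecoverage (CurvSt.Curves S 0)) :
    AlgSt.IsOpenSubstack (CurvSt.Curves S 0) (fun A => CurvSt.GeomFib (fun _ _ _ X' _ _ => IsReduced X') A.obj) Scheme.fppfPrecoverage ∧
      ∀ (Ω : Type u) [Field Ω] [IsAlgClosed Ω] (t : Spec (CommRingCat.of Ω) ⟶ S),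
        Nonempty ((AlgSt.fullSub (CurvSt.Curves S 0) (fun A => CurvSt.GeomFib (fun _ _ _ X' _ _ => IsReduced X') A.obj)).p.Fiber (Over.mk t)) := by
  have key : ∀ A : (Curves S 0).obj, GeomFib (fun _ _ _ X' _ _ => IsReduced X') A.obj ↔
      AlgSp.LocP (Everywhere GeomRed) A.obj.f := fun A =>
    geomFib_iff_locP_of_iff locusProp_red A.obj A.property (hF A)
      fun Ω _ _ X' q m _ _ => (geomRed_iff_isReduced q).symm
  refine ⟨isOpenSubstack_of_iff locusProp_red key hC, fun Ω _ _ t => ?_⟩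
  have := K901.P1Obj.smooth_p1' t
  exact K901.P1Obj.nonempty_fiber t _ ((key _).2 (K901.P1Obj.locP_p1 t locusProp_red fun x =>
    geomRed_of_smooth _ x))

theorem s17297 (hF : ∀ A : (Curves S 0).obj, HasSchFibres A.obj)
    (hC : AlgSt.IsAlgStack Scheme.fppfPrecoverage (CurvSt.Curves S 0)) :
    AlgSt.IsOpenSubstack (CurvSt.Curves S 0) (fun A => CurvSt.GeomFib (fun _ _ _ X' q _ =>
            Set.Finite {x : ↥X' | ¬ ∃ U : X'.Opens, x ∈ U ∧ Smooth (U.ι ≫ q)}) A.obj) Scheme.fppfPrecoverage ∧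
      ∀ (Ω : Type u) [Field Ω] [IsAlgClosed Ω] (t : Spec (CommRingCat.of Ω) ⟶ S),
        Nonempty ((AlgSt.fullSub (CurvSt.Curves S 0) (fun A => CurvSt.GeomFib (fun _ _ _ X' q _ =>
            Set.Finite {x : ↥X' | ¬ ∃ U : X'.Opens, x ∈ U ∧ Smooth (U.ι ≫ q)}) A.obj)).p.Fiber (Over.mk t)) := by
  have hR := locusProp_subDim locusProp_smooth.{u} 0
  have key : ∀ A : (Curves S 0).obj, GeomFib (fun _ _ _ X' q _ =>
            Set.Finite {x : ↥X' | ¬ ∃ U : X'.Opens, x ∈ U ∧ Smooth (U.ι ≫ q)}) A.obj ↔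
      AlgSp.LocP (Everywhere (SubDim SmoothAt 0)) A.obj.f := fun A =>
    geomFib_iff_locP_of_iff hR A.obj A.property (hF A)
      fun Ω _ _ X' q m _ _ => by
        have : LocallyOfFinitePresentation q := LocallyOfFinitePresentation.iff_locallyOfFiniteType.2 inferInstance
        exact finite_iff_subDim locusProp_smooth q
  refine ⟨isOpenSubstack_of_iff hR key hC, fun Ω _ _ t => ?_⟩
  have h1 := K901.P1Obj.smooth_p1' t
  refine K901.P1Obj.nonempty_fiber t _ ((key _).2 (K901.P1Obj.locP_p1 t hR fun x => ?_))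
  rintro Z ι _ hZ z rfl
  have h2 : ι z ∈ Set.range ι := ⟨z, rfl⟩
  rw [hZ] at h2
  refine absurd ⟨⊤, trivial, ?_⟩ h2
  infer_instance

end K901.RowsSch
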