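import Groth.Agent.Curves.K333.StageClosed
import Groth.Agent.PerfB.StructFlat
import Groth.Agent.CurvSt.K901.Loci

/-!
# Noetherian models of proper flat morphisms satisfying an open condition
-/

set_option autoImplicit false
universe u
open CategoryTheory CategoryTheory.Limits AlgebraicGeometry

namespace K901.DualModel

open Groth.Agent K901.Loci
open Groth.Agent.PerfB.ApproxRing Groth.Agent.PerfB.ApproxMdl Groth.Agent.PerfB.ApproxGood
  Groth.Agent.PerfB.ApproxProp

variable {A : Type u} [CommRing A] {X : Scheme.{u}} {f : X ⟶ Spec (CommRingCat.of A)} {F : X.Modules}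

/-- A pointwise open condition holds for a model at a higher level. -/
theorem exists_up {R : PtProp.{u}} (hR : LocusProp R) (m : Mdl f F) (hp : IsProper m.h) (hfl : Flat m.h)
    (hf : ∀ x, R f x) : ∃ (C : Idx A) (h : m.B ≤ C), ∀ x, R (m.up C h).h x := by
  have := m.lfp
  let Z : Set ↥(Spec (CommRingCat.of m.B.1)) := m.h '' ({x : m.Y | R m.h x}ᶜ)
  have hZ : IsClosed Z := m.h.isClosedMap _ (hR.isOpen m.h).isClosed_compl
  have hZe : ∀ s : ↥(Spec (CommRingCat.of A)), sa m.B s ∉ Z := by
    rintro s ⟨y, hy, hys⟩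
    obtain ⟨z, hz, -⟩ := Scheme.Pullback.exists_preimage_pullback y s hys
    let x : X := m.pb.isoPullback.inv z
    have hx : m.g x = y := by
      rw [← hz]
      exact congr($(m.pb.isoPullback_inv_fst) z)
    apply hy
    have h1 := (hR.baseChange m.h f m.g (sa m.B) m.pb x).1 (hf x)
    rwa [hx] at h1
  obtain ⟨C, hC, h1⟩ := K333.StageClosed.exists_stage_closed Z hZ hZe
  refine ⟨C, hC, fun y => ?_⟩
  refine (hR.baseChange m.h (m.hup hC) (m.pup hC) (si hC) (IsPullback.of_hasPullback m.h (si hC)) y).2 ?_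
  by_contra hcon
  refine h1 (m.hup hC y) ⟨m.pup hC y, hcon, ?_⟩
  exact congr($(pullback.condition (f := m.h) (g := si hC)) y)

/-- A proper flat morphism locally of finite presentation over an affine scheme, satisfying a pointwise open condition,
is the base change of one over a finitely generated subring of the base. -/
theorem exists_model {R : PtProp.{u}} (hR : LocusProp R) (f : X ⟶ Spec (CommRingCat.of A)) [IsProper f] [Flat f]
    [LocallyOfFinitePresentation f] (hf : ∀ x, R f x) :
    ∃ (B : Idx A) (X₀ : Scheme.{u}) (f₀ : X₀ ⟶ Spec (CommRingCat.of B.1)) (v : X ⟶ X₀),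
      IsPullback v f f₀ (sa B) ∧ IsProper f₀ ∧ Flat f₀ ∧ LocallyOfFinitePresentation f₀ ∧ ∀ x, R f₀ x := by
  obtain ⟨m, h2, h3⟩ := (good_isProper.good'.and PerfB.ApproxMain.good_flatMor.good').exists (f := f)
    (F := Coh.structureModule X) PerfB.StructFlat.isFP_structure
  have h2' := h2 inferInstance
  have h3' := h3 inferInstance
  obtain ⟨C, hC, hs⟩ := exists_up hR m h2' h3' hf
  have h5 : Flat m.h := h3'
  refine ⟨(m.up C hC).B, (m.up C hC).Y, (m.up C hC).h, (m.up C hC).g, (m.up C hC).pb,
    isProper_up m hC h2', flat_up m hC h3', (m.up C hC).lfp, hs⟩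

theorem isNoetherianRing_idx (B : Idx A) : IsNoetherianRing B.1 := by
  have h1 : Algebra.FiniteType ℤ B.1 := (Subalgebra.fg_iff_finiteType _).1 B.2
  exact Algebra.FiniteType.isNoetherianRing ℤ B.1

end K901.DualModel
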