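import Groth.Agent.CurvSt.K901.DualAff
import Groth.Agent.RelProj.K823.QProj

/-!
# The relative dualizing complex over an arbitrary base, from its restrictions to affine open subschemes

`LocUniv f L`: over every affine open `U` of the base, `L` restricted to `f⁻¹ U` represents
`N ↦ Hom(Rf_* N, O_U)`.
* `cm`: Cohen–Macaulay fibres of pure dimension `n`: `L` is in degree `-n` and `H^{-n}(L)` is flat over the base;
* `gor`: Gorenstein fibres: `H^{-n}(L)` is invertible;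
* `isRD_of_isPullback`: base change to a scheme mapping to an affine open.
-/

set_option autoImplicit false
universe u
open CategoryTheory CategoryTheory.Limits AlgebraicGeometry
attribute [local instance] HasDerivedCategory.standard

namespace K901.DualGen

open Groth.Agent K901.Loci Groth.Agent.Ega1.ADualUniv K682.RelDual K901.DualAff

/-- The restrictions of `L` over the affine opens of the base are universal. -/
def LocUniv {X S : Scheme.{u}} (f : X ⟶ S) (L : DCoh.D X) : Prop :=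
  ∀ (U : S.Opens), IsAffineOpen U → ∀ [DCoh.HasRpush (f ∣_ U)],
    Univ (f ∣_ U) (DCoh.inD U.toScheme (Coh.structureModule U.toScheme))
      ((DCoh.restrictD (f ⁻¹ᵁ U).ι).obj L)

/-- The case of an affine scheme. -/
theorem exists_isRD_isAffine {X S : Scheme.{u}} [IsAffine S] (f : X ⟶ S) [Flat f]
    [IsProper f] [LocallyOfFinitePresentation f] [DCoh.HasRpush f] (n : ℕ) (h : ∀ x, GorDim n f x) :
    ∃ L : X.Modules, PicF.IsInvertible L ∧ IsRD f n L := by
  let f' : X ⟶ Spec (CommRingCat.of Γ(S, ⊤)) := f ≫ S.isoSpec.hom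
  have sq : IsPullback (𝟙 X) f f' S.isoSpec.hom := IsPullback.of_horiz_isIso ⟨by simp [f']⟩
  have sq' : IsPullback (𝟙 X) f' f S.isoSpec.inv := IsPullback.of_horiz_isIso ⟨by simp [f']⟩
  have hr : DCoh.HasRpush f' := Dcoh.DerSch.hasRpush f'
  have c1 : CompactSpace X := QuasiCompact.compactSpace_of_compactSpace f
  have c2 : QuasiSeparatedSpace X := quasiSeparatedSpace_of_quasiSeparated f
  obtain ⟨L, hL, hL'⟩ := exists_isRD_affine f' n fun x =>
    ((locusProp_gorDim n).baseChange f f' (𝟙 X) S.isoSpec.inv sq' x).2 (h x)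
  exact ⟨_, PerfB.LimMod.isInvertible_pullback (𝟙 X) hL, IsRD.baseChange sq hL hL'⟩

variable {X S : Scheme.{u}} (f : X ⟶ S) [Flat f] [IsProper f] [LocallyOfFinitePresentation f] (n : ℕ)

theorem gorDim_restrict (h : ∀ x, GorDim n f x) (U : S.Opens) (x : (f ⁻¹ᵁ U).toScheme) : GorDim n (f ∣_ U) x :=
  ((locusProp_gorDim n).baseChange f (f ∣_ U) (f ⁻¹ᵁ U).ι U.ι (isPullback_morphismRestrict f U).flip x).2 (h _)

variable {L : DCoh.D X}

theorem cm (hL : LocUniv f L) (hCM : ∀ x : X, MoreMor.IsCMAt f x)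
    (hd : ∀ x : X, FlatMor.fibreDimAt f x = (n : WithBot ℕ∞)) :
    (∀ i : ℤ, i ≠ -(n : ℤ) → IsZero (DCoh.HD L i)) ∧ FlatMod.IsFlatOver f (DCoh.HD L (-(n : ℤ))) := by
  have key : ∀ x : X, ∃ U : S.Opens, IsAffineOpen U ∧ f x ∈ U := fun x => by
    obtain ⟨_, ⟨V, hV, rfl⟩, hxV, -⟩ := S.isBasis_affineOpens.exists_subset_of_mem_open
      (show f x ∈ (⊤ : S.Opens) from trivial) (⊤ : S.Opens).2
    exact ⟨V, hV, hxV⟩
  have hcm' : ∀ (U : S.Opens) (x : (f ⁻¹ᵁ U).toScheme), MoreMor.IsCMAt (f ∣_ U) x ∧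
      FlatMor.fibreDimAt (f ∣_ U) x = (n : WithBot ℕ∞) := fun U x =>
    ((locusProp_cmDim n).baseChange f (f ∣_ U) (f ⁻¹ᵁ U).ι U.ι
      (isPullback_morphismRestrict f U).flip x).2 ⟨hCM _, hd _⟩
  constructor
  · intro i hi
    refine Dual.H316.RelFlatCover.isZero_HD_of_cover L i fun x => ?_
    obtain ⟨U, hU, hx⟩ := key x
    have hU' : IsAffine U := hU
    have hr : DCoh.HasRpush (f ∣_ U) := Dcoh.DerSch.hasRpush _
    refine ⟨_, (f ⁻¹ᵁ U).ι, inferInstance, ⟨⟨x, hx⟩, rfl⟩, ?_⟩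
    exact K174.AdjCM.isZero_HD (f ∣_ U) (Iso.refl _) (hL U hU) (fun x => (hcm' U x).1) n (fun x => (hcm' U x).2) i hi
  · intro x
    obtain ⟨U, hU, hx⟩ := key x
    have hU' : IsAffine U := hU
    have hr : DCoh.HasRpush (f ∣_ U) := Dcoh.DerSch.hasRpush _
    have h1 := K174.AdjCM.isFlatOver_HD (f ∣_ U) (Iso.refl _) (hL U hU) (fun x => (hcm' U x).1) n
      (fun x => (hcm' U x).2)
    have h2 : FlatMod.IsFlatOver (f ∣_ U) ((DCoh.HD L (-(n : ℤ))).restrict (f ⁻¹ᵁ U).ι) :=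
      Groth.Agent.PerfC.RelFlat.isFlatOver_of_iso _ (Dcoh.LocalD.HDRestrict (f ⁻¹ᵁ U).ι L (-(n : ℤ))) h1
    exact (Ega3B.FlatRestrict.isFlatOverAt_restrict_iff f (f ∣_ U) (f ⁻¹ᵁ U).ι U.ι
      (isPullback_morphismRestrict f U).w.symm _ ⟨x, hx⟩).1 (h2 ⟨x, hx⟩)

/-- Over an affine open of the base the cohomology sheaf is the relative dualizing sheaf. -/
theorem exists_restrict_iso (hL : LocUniv f L) (h : ∀ x, GorDim n f x) (U : S.Opens) (hU : IsAffineOpen U)
    [DCoh.HasRpush (f ∣_ U)] : ∃ M : (f ⁻¹ᵁ U).toScheme.Modules, PicF.IsInvertible M ∧ IsRD (f ∣_ U) n M ∧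
      Nonempty ((DCoh.HD L (-(n : ℤ))).restrict (f ⁻¹ᵁ U).ι ≅ M) := by
  have hU' : IsAffine U := hU
  obtain ⟨M, hM, hM'⟩ := exists_isRD_isAffine (f ∣_ U) n (gorDim_restrict f n h U)
  obtain ⟨e⟩ := Univ.unique (hL U hU) hM'
  obtain ⟨e1⟩ := Dual.H328.WUniv.nonempty_HD_inD_shift M (n : ℤ) (-(n : ℤ)) (by omega)
  exact ⟨M, hM, hM', ⟨(Dcoh.LocalD.HDRestrict (f ⁻¹ᵁ U).ι L (-(n : ℤ))).symm ≪≫
    (DerivedCategory.homologyFunctor _ (-(n : ℤ))).mapIso e ≪≫ e1⟩⟩

theorem gor (hL : LocUniv f L) (h : ∀ x, GorDim n f x) : PicF.IsInvertible (DCoh.HD L (-(n : ℤ))) := by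
  refine K823.QProj.isInvertible_of_cover f _ fun U hU => ?_
  have hU' : IsAffine U := hU
  have hr : DCoh.HasRpush (f ∣_ U) := Dcoh.DerSch.hasRpush _
  obtain ⟨M, hM, -, ⟨e⟩⟩ := exists_restrict_iso f n hL h U hU
  exact PerfB.LimMod.isInvertible_of_iso e.symm hM

/-- Base change of the relative dualizing sheaf. -/
theorem isRD_of_isPullback (hL : LocUniv f L) (h : ∀ x, GorDim n f x) {X' T : Scheme.{u}} [CompactSpace T]
    [QuasiSeparatedSpace T] {i : X' ⟶ X} {q : X' ⟶ T} {t : T ⟶ S} (sq : IsPullback i q f t) [DCoh.HasRpush q]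
    (U : S.Opens) (hU : IsAffineOpen U) (ht : ∀ x, t x ∈ U) :
    IsRD q n ((Scheme.Modules.pullback i).obj (DCoh.HD L (-(n : ℤ)))) := by
  have hU' : IsAffine U := hU
  have hr : DCoh.HasRpush (f ∣_ U) := Dcoh.DerSch.hasRpush _
  obtain ⟨M, hM, hM', ⟨e⟩⟩ := exists_restrict_iso f n hL h U hU
  have hq : IsProper q := MorphismProperty.of_isPullback sq inferInstance
  have c1 : CompactSpace X' := QuasiCompact.compactSpace_of_compactSpace q
  have c2 : QuasiSeparatedSpace X' := quasiSeparatedSpace_of_quasiSeparated q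
  have c3 : CompactSpace (f ⁻¹ᵁ U).toScheme := QuasiCompact.compactSpace_of_compactSpace (f ∣_ U)
  have c4 : QuasiSeparatedSpace (f ⁻¹ᵁ U).toScheme := quasiSeparatedSpace_of_quasiSeparated (f ∣_ U)
  let t' : T ⟶ U := IsOpenImmersion.lift U.ι t (by
    rintro _ ⟨x, rfl⟩
    rw [Scheme.Opens.range_ι]
    exact ht x)
  have ht' : t' ≫ U.ι = t := IsOpenImmersion.lift_fac _ _ _
  let i' : X' ⟶ (f ⁻¹ᵁ U).toScheme := (isPullback_morphismRestrict f U).flip.lift i (q ≫ t') (by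
    rw [Category.assoc, ht', sq.w])
  have hi' : i' ≫ (f ⁻¹ᵁ U).ι = i := (isPullback_morphismRestrict f U).flip.lift_fst _ _ _
  have hi2 : i' ≫ (f ∣_ U) = q ≫ t' := (isPullback_morphismRestrict f U).flip.lift_snd _ _ _
  have sq' : IsPullback i' q (f ∣_ U) t' := by
    refine IsPullback.of_right ?_ hi2 (isPullback_morphismRestrict f U).flip
    rw [hi', ht']
    exact sq
  have h1 := IsRD.baseChange sq' hM hM'
  let e' : (Scheme.Modules.pullback i').obj M ≅ (Scheme.Modules.pullback i).obj (DCoh.HD L (-(n : ℤ))) :=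
    (Scheme.Modules.pullback i').mapIso e.symm ≪≫
      (Scheme.Modules.pullback i').mapIso ((Scheme.Modules.restrictFunctorIsoPullback (f ⁻¹ᵁ U).ι).app _) ≪≫
      (Scheme.Modules.pullbackComp i' (f ⁻¹ᵁ U).ι).app _ ≪≫ (Scheme.Modules.pullbackCongr hi').app _
  have e2 := (shiftFunctor (DCoh.D X') (n : ℤ)).mapIso
    ((DerivedCategory.singleFunctor X'.Modules 0).mapIso e')
  exact Univ.of_iso_left h1 e2 (PerfA.QCohD.isQCohD_of_iso e2 h1.qcoh)

end K901.DualGen
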