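import Groth.Agent.Dual3.K477.RelUniv
import Groth.Agent.CurvSt.K901.DualGen
import Groth.Agent.S3646

/-!
# The dualizing complex over an arbitrary base localizes on the base

* `locUniv_dualizingCx`: `LocUniv f (DCoh.dualizingCx f h OS)`.
-/

set_option autoImplicit false
universe u
open CategoryTheory CategoryTheory.Limits AlgebraicGeometry
attribute [local instance] HasDerivedCategory.standard

namespace K901.DualRel

open Groth.Agent K901.Loci Groth.Agent.Ega1.ADualUniv K682.RelDual K901.DualAff K901.DualGen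
open Groth.Agent.K477.RelUniv Groth.Agent.K477.NormSch Groth.Agent.Dual.H307.MonSquare

attribute [local instance] Groth.Agent.PerfB.BCSch.hasLpull Groth.Agent.Dcoh.DerSch.hasRpush

variable {X S : Scheme.{u}} (f : X ⟶ S) [Flat f] [IsProper f] [LocallyOfFinitePresentation f]

theorem locUniv_of_isRelDualizing {K : DCoh.D X} (hK : Dual3.IsRelDualizing f K) : LocUniv f K := by
  intro U hU _
  have hU' : IsAffine U.toScheme := hU
  obtain ⟨τ, -, hτ⟩ := exists_isUniv f hK (Iso.refl (OO S))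
  have sq : IsPullback (f ⁻¹ᵁ U).ι (f ∣_ U) f U.ι := (isPullback_morphismRestrict f U).flip
  have h1 := isUniv_res f sq τ (hτ U.ι (f ⁻¹ᵁ U).ι (f ∣_ U) sq)
  have h2 : Univ (f ∣_ U) _ _ := ⟨_, h1⟩
  exact h2.of_iso_right (Dual.H349.Bridge.restrictO U.ι)

/-- **The dualizing complex localizes on the base.** -/
theorem locUniv_dualizingCx [DCoh.HasRpush f] (h : DCoh.RpushPreservesQCoh f) [DCoh.HasShriek f h]
    (OS : DCoh.DQCoh S) (hOS : Nonempty (OS.obj ≅ DCoh.inD S (Coh.structureModule S))) :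
    LocUniv f (DCoh.dualizingCx f h OS) := by
  obtain ⟨K, hK⟩ := S3646.result X S f
  obtain ⟨e⟩ := nonempty_dualizingCx_iso f h OS hOS hK
  intro U hU _
  have h1 := locUniv_of_isRelDualizing f hK U hU
  have e1 := (DCoh.restrictD (f ⁻¹ᵁ U).ι).mapIso e.symm
  exact h1.of_iso_left e1 (PerfA.QCohD.isQCohD_of_iso e1 h1.qcoh)

variable [DCoh.HasRpush f] (h : DCoh.RpushPreservesQCoh f) [DCoh.HasShriek f h]
    (OS : DCoh.DQCoh S) (hOS : Nonempty (OS.obj ≅ DCoh.inD S (Coh.structureModule S))) (n : ℕ)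

include hOS

/-- Cohen–Macaulay fibres of pure dimension `n`. -/
theorem cm (hCM : ∀ x : X, MoreMor.IsCMAt f x)
    (hd : ∀ x : X, FlatMor.fibreDimAt f x = (n : WithBot ℕ∞)) :
    (∀ i : ℤ, i ≠ -(n : ℤ) → IsZero (DCoh.HD (DCoh.dualizingCx f h OS) i)) ∧
      FlatMod.IsFlatOver f (DCoh.dualizingMod f h OS n) :=
  DualGen.cm f n (locUniv_dualizingCx f h OS hOS) hCM hd

/-- Gorenstein fibres of pure dimension `n`. -/
theorem gor (hG : ∀ x, GorDim n f x) : PicF.IsInvertible (DCoh.dualizingMod f h OS n) :=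
  DualGen.gor f n (locUniv_dualizingCx f h OS hOS) hG

/-- Base change of the relative dualizing sheaf to a scheme whose image lies in an affine open. -/
theorem isRD_pullback (hG : ∀ x, GorDim n f x) {X' T : Scheme.{u}} [CompactSpace T]
    [QuasiSeparatedSpace T] {i : X' ⟶ X} {q : X' ⟶ T} {t : T ⟶ S} (sq : IsPullback i q f t) [DCoh.HasRpush q]
    (U : S.Opens) (hU : IsAffineOpen U) (ht : ∀ x, t x ∈ U) :
    IsRD q n ((Scheme.Modules.pullback i).obj (DCoh.dualizingMod f h OS n)) :=
  DualGen.isRD_of_isPullback f n (locUniv_dualizingCx f h OS hOS) hG sq U hU ht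

/-- Base change of the relative dualizing sheaf to a field. -/
theorem isRD_field (hG : ∀ x, GorDim n f x) {k : Type u} [Field k] {X' : Scheme.{u}} {i : X' ⟶ X}
    {q : X' ⟶ Spec (CommRingCat.of k)} {t : Spec (CommRingCat.of k) ⟶ S} (sq : IsPullback i q f t)
    [DCoh.HasRpush q] : IsRD q n ((Scheme.Modules.pullback i).obj (DCoh.dualizingMod f h OS n)) := by
  obtain ⟨_, ⟨U, hU, rfl⟩, hx, -⟩ := S.isBasis_affineOpens.exists_subset_of_mem_open
    (show t (IsLocalRing.closedPoint k) ∈ (⊤ : S.Opens) from trivial) (⊤ : S.Opens).2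
  refine isRD_pullback f h OS hOS n hG sq U hU fun x => ?_
  have h1 : x = IsLocalRing.closedPoint k := Subsingleton.elim (α := PrimeSpectrum k) _ _
  rw [h1]
  exact hx

end K901.DualRel
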