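import Groth.Agent.CurvSt.K310.ExistsCurve
import Groth.Agent.CurvSt.K901.EtSch
import Groth.Agent.CurvSt.K899.CurveFam
import Groth.Agent.CurvSt.K901.SchRed

/-!
# Smooth curves of genus `g` as objects of the stack of curves

* `exists_curveFam`: a smooth curve of genus `g` over `t : Spec Ω ⟶ S` as an unpointed family;
* `nonempty_fiber`: nonempty fibres of the stack of curves with a condition on the geometric fibres satisfied by smooth
  curves of genus `g`;
* `isPrestablePtd_of_isCurveOfGenus`.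
-/

set_option autoImplicit false
universe u

open CategoryTheory CategoryTheory.Limits AlgebraicGeometry

namespace K901.GenusObj

open Groth.Agent AlgSp CurvSt K901.EtSch K901.SchLoc K901.GeomFibAt

variable {S : Scheme.{u}}

theorem exists_curveFam (g : ℕ) {Ω : Type u} [Field Ω] [IsAlgClosed Ω] (t : Spec (CommRingCat.of Ω) ⟶ S) :
    ∃ (B : PtFamObj S 0) (_ : B.base = Over.mk t), Flat B.f ∧ IsProper B.f ∧ LocallyOfFinitePresentation B.f ∧
      (∀ x, FlatMor.fibreDimAt B.f x ≤ 1) ∧ ModFun.IsCurveOfGenus g B.f := by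
  obtain ⟨X, q, h, hg⟩ := K310.ExistsCurve.exists_isCurveOfGenus Ω g
  obtain ⟨h1, h2, h3, h4⟩ := id h
  refine ⟨⟨Over.mk t, X, q, Fin.elim0, fun i => Fin.elim0 i⟩, rfl, ?_, h1, ?_, fun x => ?_, hg⟩
  · exact inferInstanceAs (Flat q)
  · exact inferInstanceAs (LocallyOfFinitePresentation q)
  · change FlatMor.fibreDimAt q x ≤ 1
    rw [SchRed.fibreDimAt_field]
    have h5 := K284.TopDim.dim_eq_iSup_localDim (X := X)
    rw [h4] at h5
    rw [h5]
    exact le_iSup (fun y : X => FlatMor.localDim X y) x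

/-- The stack of curves with a condition satisfied by smooth curves of genus `g` has nonempty fibres. -/
theorem nonempty_fiber (g : ℕ) {P : FibProp.{u} 0}
    (hP : ∀ (Ω : Type u) [Field Ω] [IsAlgClosed Ω] (X : Scheme.{u}) (q : X ⟶ Spec (CommRingCat.of Ω))
      (m : Fin 0 → ↥X), Smooth q → IsProper q → IrreducibleSpace X → IsReduced X → topologicalKrullDim X = 1 →
        (letI : X.Over (Spec (CommRingCat.of Ω)) := ⟨q⟩
         Curv2.genus Ω X = g) → P Ω X q m)
    {Ω : Type u} [Field Ω] [IsAlgClosed Ω] (t : Spec (CommRingCat.of Ω) ⟶ S) :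
    Nonempty ((AlgSt.fullSub (Curves S 0) (fun A => GeomFib P A.obj)).p.Fiber (Over.mk t)) := by
  obtain ⟨B, hB, f1, f2, f3, f4, hsm, hpr, hirr, hfib⟩ := exists_curveFam (S := S) g t
  have key : GeomFib P ((toSpFam S 0).obj B) := ?_
  · exact ⟨⟨⟨K899.CurveFam.toCurves B f1 f2 f3 f4, key⟩, hB⟩⟩
  refine geomFib_iff.2 fun Ω' _ _ t' => (geomFibAt_toSpFam_iff B t').2 fun X' i q hsq => ?_
  obtain ⟨hd, hg⟩ := hfib Ω' t' X' i q hsq
  have h1 : Smooth q := MorphismProperty.of_isPullback hsq hsm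
  have h2 : IsProper q := MorphismProperty.of_isPullback hsq hpr
  have h3 : IrreducibleSpace X' :=
    GeometricallyIrreducible.geometrically_irreducibleSpace (f := B.f) _ _ _ hsq
  have h4 : IsReduced X' := Flat2B.SmoothGeom.isReduced_of_smooth q
  exact hP Ω' X' q _ h1 h2 h3 h4 hd hg

theorem isPrestablePtd_of_smooth {g : ℕ} (Ω : Type u) [Field Ω] [IsAlgClosed Ω] (X : Scheme.{u})
    (q : X ⟶ Spec (CommRingCat.of Ω)) (m : Fin 0 → ↥X) (h1 : Smooth q) (h2 : IsProper q) (h3 : IrreducibleSpace X)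
    (h5 : topologicalKrullDim X = 1)
    (h6 : (letI : X.Over (Spec (CommRingCat.of Ω)) := ⟨q⟩
         Curv2.genus Ω X = g)) : StMap.IsPrestablePtd Ω X q g m :=
  ⟨h2, inferInstance, h5, ⟨Groth.Agent.Models.H112.NodalFam.atWorstNodal_of_smooth q, h6⟩,
    fun i => i.elim0, fun i => i.elim0⟩

/-- Prestable unpointed curves of genus `g`: nonempty fibres. -/
theorem nonempty_fiber_prestable (g : ℕ) {Ω : Type u} [Field Ω] [IsAlgClosed Ω] (t : Spec (CommRingCat.of Ω) ⟶ S) :
    Nonempty ((AlgSt.fullSub (Curves S 0) (fun A => SpIsPrestablePtd A.obj g)).p.Fiber (Over.mk t)) :=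
  nonempty_fiber g (P := fun Ω _ _ X' q x => StMap.IsPrestablePtd Ω X' q g x)
    (fun Ω _ _ X q m h1 h2 h3 _ h5 h6 => isPrestablePtd_of_smooth Ω X q m h1 h2 h3 h5 h6) t

end K901.GenusObj
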