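import Groth.Prelude.Def_StCurv2
import Groth.Agent.CurvSt.K903.GeomFib

/-!
The condition `P` on one geometric fibre of a pointed family, and its transfer along morphisms of families.

* `K901.GeomFibAt.GeomFibAt P A t`: all scheme realisations of the geometric fibre over `t` satisfy `P`.
* `geomFib_iff`: `GeomFib P A ↔ ∀ t, GeomFibAt P A t`.
* `geomFibAt_iff_of_hom`: for `φ : B ⟶ A`, `GeomFibAt P B t' ↔ GeomFibAt P A (t' ≫ φ.base.left)`.
* `geomFibAt_toSpFam_iff`: for scheme families in terms of squares of schemes.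
-/

set_option autoImplicit false
set_option linter.dupNamespace false

universe u

open CategoryTheory CategoryTheory.Limits AlgebraicGeometry Opposite

namespace K901.GeomFibAt

open CurvSt AlgSp

variable {S : Scheme.{u}} {n : ℕ}

/-- Properties of pointed schemes over algebraically closed fields. -/
abbrev FibProp (n : ℕ) : Type (u + 1) := ∀ (Ω : Type u) [Field Ω] [IsAlgClosed Ω] (X' : Scheme.{u}),
      (X' ⟶ Spec (CommRingCat.of Ω)) → (Fin n → ↥X') → Prop

/-- The condition `P` on the geometric fibre of `A` over the geometric point `t`. -/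
def GeomFibAt (P : FibProp.{u} n) (A : SpFamObj S n) {Ω : Type u} [Field Ω] [IsAlgClosed Ω]
    (t : Spec (CommRingCat.of Ω) ⟶ A.base.left) : Prop :=
  ∀ (X' : Scheme.{u}) (q : X' ⟶ Spec (CommRingCat.of Ω)) (i : (yon S).obj (A.ptOver (q ≫ t)) ⟶ A.X)
    (hP : IsPullback i ((yon S).map (A.fibHom t q)) A.f ((yon S).map (A.ptHom t))), P Ω X' q (A.spMarkedPt hP)

variable {P : FibProp.{u} n}

theorem geomFib_iff {A : SpFamObj S n} :
    GeomFib P A ↔ ∀ (Ω : Type u) [Field Ω] [IsAlgClosed Ω] (t : Spec (CommRingCat.of Ω) ⟶ A.base.left),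
      GeomFibAt P A t :=
  ⟨fun h Ω _ _ t X' q i hP => h Ω t X' q i hP, fun h Ω _ _ t X' q i hP => h Ω t X' q i hP⟩

section Hom

variable {A B : SpFamObj S n} (φ : B ⟶ A)

/-- Comparison of the structure morphisms. -/
def ptIso {T' : Scheme.{u}} (t' : T' ⟶ B.base.left) : A.ptOver (t' ≫ φ.base.left) ≅ B.ptOver t' :=
  Over.isoMk (Iso.refl _) (by
    change 𝟙 T' ≫ t' ≫ B.base.hom = (t' ≫ φ.base.left) ≫ A.base.hom
    rw [Category.id_comp, Category.assoc, Over.w])

/-- Comparison of the structure morphisms. -/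
def fibIso {T' X' : Scheme.{u}} (t' : T' ⟶ B.base.left) (q : X' ⟶ T') :
    A.ptOver (q ≫ t' ≫ φ.base.left) ≅ B.ptOver (q ≫ t') :=
  Over.isoMk (Iso.refl _) (by
    change 𝟙 X' ≫ (q ≫ t') ≫ B.base.hom = (q ≫ t' ≫ φ.base.left) ≫ A.base.hom
    rw [Category.id_comp, Category.assoc, Category.assoc, Category.assoc, Over.w])

theorem ptIso_hom_ptHom {T' : Scheme.{u}} (t' : T' ⟶ B.base.left) :
    (ptIso φ t').hom ≫ B.ptHom t' ≫ φ.base = A.ptHom (t' ≫ φ.base.left) := by
  apply Over.OverMorphism.ext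
  change 𝟙 T' ≫ t' ≫ φ.base.left = t' ≫ φ.base.left
  rw [Category.id_comp]

theorem fibIso_hom_fibHom {T' X' : Scheme.{u}} (t' : T' ⟶ B.base.left) (q : X' ⟶ T') :
    (fibIso φ t' q).hom ≫ B.fibHom t' q = A.fibHom (t' ≫ φ.base.left) q ≫ (ptIso φ t').hom := by
  apply Over.OverMorphism.ext
  change 𝟙 X' ≫ q = q ≫ 𝟙 T'
  rw [Category.id_comp, Category.comp_id]

theorem fibIso_inv_fibHom {T' X' : Scheme.{u}} (t' : T' ⟶ B.base.left) (q : X' ⟶ T') :
    (fibIso φ t' q).inv ≫ A.fibHom (t' ≫ φ.base.left) q = B.fibHom t' q ≫ (ptIso φ t').inv := by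
  apply Over.OverMorphism.ext
  change 𝟙 X' ≫ q = q ≫ 𝟙 T'
  rw [Category.id_comp, Category.comp_id]

theorem fibIso_inv_fibHom_ptHom {T' X' : Scheme.{u}} (t' : T' ⟶ B.base.left) (q : X' ⟶ T') :
    (fibIso φ t' q).inv ≫ A.fibHom (t' ≫ φ.base.left) q ≫ A.ptHom (t' ≫ φ.base.left) =
      (B.fibHom t' q ≫ B.ptHom t') ≫ φ.base := by
  apply Over.OverMorphism.ext
  change 𝟙 X' ≫ q ≫ t' ≫ φ.base.left = (q ≫ t') ≫ φ.base.left
  rw [Category.id_comp, Category.assoc]

theorem isPullback_hom {T' X' : Scheme.{u}} {t' : T' ⟶ B.base.left} {q : X' ⟶ T'}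
    {i : (yon S).obj (B.ptOver (q ≫ t')) ⟶ B.X}
    (hP : IsPullback i ((yon S).map (B.fibHom t' q)) B.f ((yon S).map (B.ptHom t'))) :
    IsPullback ((yon S).map (fibIso φ t' q).hom ≫ i ≫ φ.top) ((yon S).map (A.fibHom (t' ≫ φ.base.left) q)) A.f
      ((yon S).map (A.ptHom (t' ≫ φ.base.left))) := by
  have h1 := hP.paste_horiz φ.cart
  refine IsPullback.of_iso h1 ((yon S).mapIso (fibIso φ t' q)).symm (Iso.refl _) ((yon S).mapIso (ptIso φ t')).symm
    (Iso.refl _) ?_ ?_ ?_ ?_
  · simp only [Iso.refl_hom, Category.comp_id, Iso.symm_hom, Functor.mapIso_inv]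
    rw [← Category.assoc, ← Functor.map_comp, Iso.inv_hom_id, CategoryTheory.Functor.map_id, Category.id_comp]
  · simp only [Iso.symm_hom, Functor.mapIso_inv]
    rw [← Functor.map_comp, ← Functor.map_comp]
    exact congrArg (yon S).map (fibIso_inv_fibHom φ t' q).symm
  · simp
  · simp only [Iso.refl_hom, Category.comp_id, Iso.symm_hom, Functor.mapIso_inv]
    rw [← Functor.map_comp, ← Functor.map_comp]
    apply congrArg (yon S).map
    rw [Iso.eq_inv_comp, ptIso_hom_ptHom]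

theorem exists_isPullback {T' X' : Scheme.{u}} {t' : T' ⟶ B.base.left} {q : X' ⟶ T'}
    {i : (yon S).obj (A.ptOver (q ≫ t' ≫ φ.base.left)) ⟶ A.X}
    (hP : IsPullback i ((yon S).map (A.fibHom (t' ≫ φ.base.left) q)) A.f
      ((yon S).map (A.ptHom (t' ≫ φ.base.left)))) :
    ∃ i' : (yon S).obj (B.ptOver (q ≫ t')) ⟶ B.X,
      IsPullback i' ((yon S).map (B.fibHom t' q)) B.f ((yon S).map (B.ptHom t')) ∧
      i = (yon S).map (fibIso φ t' q).hom ≫ i' ≫ φ.top := by
  have w : ((yon S).map (fibIso φ t' q).inv ≫ i) ≫ A.f =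
      ((yon S).map (B.fibHom t' q) ≫ (yon S).map (B.ptHom t')) ≫ (yon S).map φ.base := by
    rw [Category.assoc, hP.w, ← Functor.map_comp, ← Functor.map_comp, ← Functor.map_comp, ← Functor.map_comp]
    exact congrArg (yon S).map (fibIso_inv_fibHom_ptHom φ t' q)
  let i' := φ.cart.lift _ _ w
  have h1 : i' ≫ φ.top = (yon S).map (fibIso φ t' q).inv ≫ i := φ.cart.lift_fst _ _ w
  have h2 : i' ≫ B.f = (yon S).map (B.fibHom t' q) ≫ (yon S).map (B.ptHom t') := φ.cart.lift_snd _ _ w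
  refine ⟨i', ?_, ?_⟩
  · refine IsPullback.of_right ?_ h2 φ.cart
    rw [h1]
    refine IsPullback.of_iso hP ((yon S).mapIso (fibIso φ t' q)) (Iso.refl _) ((yon S).mapIso (ptIso φ t'))
      (Iso.refl _) ?_ ?_ ?_ ?_
    · simp
    · simp only [Functor.mapIso_hom, ← Functor.map_comp]
      rw [fibIso_hom_fibHom]
    · simp
    · simp only [Iso.refl_hom, Category.comp_id, Functor.mapIso_hom, ← Functor.map_comp]
      rw [ptIso_hom_ptHom]
  · rw [h1]
    simp

theorem spMarkedPt_hom {Ω : Type u} [Field Ω] {X' : Scheme.{u}} {t' : Spec (CommRingCat.of Ω) ⟶ B.base.left}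
    {q : X' ⟶ Spec (CommRingCat.of Ω)} {i : (yon S).obj (B.ptOver (q ≫ t')) ⟶ B.X}
    (hP : IsPullback i ((yon S).map (B.fibHom t' q)) B.f ((yon S).map (B.ptHom t'))) :
    A.spMarkedPt (isPullback_hom φ hP) = B.spMarkedPt hP := by
  funext j
  let y : (yon S).obj (B.ptOver t') ⟶ (yon S).obj (B.ptOver (q ≫ t')) :=
    hP.lift ((yon S).map (B.ptHom t') ≫ B.sect j) (𝟙 _)
      (by rw [Category.assoc, B.sect_f, Category.comp_id, Category.id_comp])
  let xB : B.ptOver t' ⟶ B.ptOver (q ≫ t') := (yon S).preimage y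
  have hy : (yon S).map xB = y := (yon S).map_preimage y
  have hxB1 : xB ≫ B.fibHom t' q = 𝟙 _ := by
    apply (yon S).map_injective
    rw [Functor.map_comp, hy, CategoryTheory.Functor.map_id]
    exact hP.lift_snd _ _ _
  have hxB2 : (yon S).map xB ≫ i = (yon S).map (B.ptHom t') ≫ B.sect j := by
    rw [hy]
    exact hP.lift_fst _ _ _
  rw [K903.GeomFib.spMarkedPt_eq_of A (isPullback_hom φ hP) j
    ((ptIso φ t').hom ≫ xB ≫ (fibIso φ t' q).inv)]
  · have h1 : ((ptIso φ t').hom ≫ xB ≫ (fibIso φ t' q).inv).left = xB.left := by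
      change 𝟙 _ ≫ xB.left ≫ 𝟙 _ = xB.left
      rw [Category.id_comp, Category.comp_id]
    rw [h1]
    rfl
  · rw [Category.assoc, Category.assoc, fibIso_inv_fibHom, reassoc_of% hxB1, Iso.hom_inv_id]
  · have h4 : (yon S).map (fibIso φ t' q).inv ≫ (yon S).map (fibIso φ t' q).hom = 𝟙 _ := by
      rw [← Functor.map_comp, Iso.inv_hom_id, CategoryTheory.Functor.map_id]
    rw [Functor.map_comp, Functor.map_comp, Category.assoc, Category.assoc, reassoc_of% h4, reassoc_of% hxB2,
      φ.w_sect j, ← ptIso_hom_ptHom φ t', Functor.map_comp, Functor.map_comp, Category.assoc, Category.assoc]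

/-- The condition on a geometric fibre is invariant under base change of families. -/
theorem geomFibAt_iff_of_hom {Ω : Type u} [Field Ω] [IsAlgClosed Ω] (t' : Spec (CommRingCat.of Ω) ⟶ B.base.left) :
    GeomFibAt P B t' ↔ GeomFibAt P A (t' ≫ φ.base.left) := by
  constructor
  · intro H X' q i hP
    obtain ⟨i', hP', rfl⟩ := exists_isPullback φ hP
    have h1 := H X' q i' hP'
    rw [← spMarkedPt_hom φ hP'] at h1
    exact h1
  · intro H X' q i hP
    have h1 := H X' q _ (isPullback_hom φ hP)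
    rwa [spMarkedPt_hom φ hP] at h1

end Hom

/-- For scheme families. -/
theorem geomFibAt_toSpFam_iff (A : PtFamObj S n) {Ω : Type u} [Field Ω] [IsAlgClosed Ω]
    (t : Spec (CommRingCat.of Ω) ⟶ A.base.left) :
    GeomFibAt P ((toSpFam S n).obj A) t ↔
      ∀ (X' : Scheme.{u}) (i : X' ⟶ A.C) (q : X' ⟶ Spec (CommRingCat.of Ω)) (hP : IsPullback i q A.f t),
        P Ω X' q (markedPt A.sect A.sect_f hP) := by
  constructor
  · intro h X' i q hP
    have h2 := h X' q _ (K903.GeomFib.isPullback_yon A hP)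
    have h3 : ((toSpFam S n).obj A).spMarkedPt (K903.GeomFib.isPullback_yon A hP) = markedPt A.sect A.sect_f hP :=
      funext fun j => K903.GeomFib.spMarkedPt_eq A (K903.GeomFib.isPullback_yon A hP) j
    rwa [h3] at h2
  · intro h X' q i hP
    obtain ⟨i, rfl⟩ := (AlgSp.yon S).map_surjective i
    have h3 : ((toSpFam S n).obj A).spMarkedPt hP = markedPt A.sect A.sect_f (K903.GeomFib.isPullback_of_yon A hP) :=
      funext fun j => K903.GeomFib.spMarkedPt_eq A hP j
    rw [h3]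
    exact h X' i.left q (K903.GeomFib.isPullback_of_yon A hP)

end K901.GeomFibAt
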