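import Groth.Agent.CurvSt.K901.Loci
import Groth.Agent.Ega43.GeomBC

/-!
`GeomAt P` for `P` etale local: `K901.Loci.geomAt_comp_etale`.
-/

set_option autoImplicit false
universe u

open AlgebraicGeometry CategoryTheory CategoryTheory.Limits

namespace K901.Loci

open Groth.Agent.Ega43.GeomAt Groth.Agent.Ega43.GeomBC

/-- `P` ascends along etale morphisms of locally Noetherian schemes. -/
def EtAsc (P : ∀ (R : Type u) [CommRing R], Prop) : Prop :=
  ∀ {X Y : Scheme.{u}} (g : X ⟶ Y) [Etale g] [IsLocallyNoetherian Y] (x : X), P (Y.presheaf.stalk (g x)) →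
    P (X.presheaf.stalk x)

variable {P : ∀ (R : Type u) [CommRing R], Prop}

/-- `GeomAt P` is etale local on the source. -/
theorem geomAt_comp_etale (hD : FlatDesc P) (hE : EtAsc P) {U X Y : Scheme.{u}} (a : U ⟶ X) [Etale a]
    (f : X ⟶ Y) [LocallyOfFiniteType f] (u : U) : GeomAt P (a ≫ f) u ↔ GeomAt P f (a u) := by
  constructor
  · intro h K _ Z c b j hpb z hz
    obtain ⟨z', hz1, hz2⟩ := Scheme.Pullback.exists_preimage_pullback (f := c) (g := a) z u hz
    have h1 := (IsPullback.of_hasPullback c a).flip.paste_vert hpb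
    have h2 := h K _ _ _ j h1 z' hz2
    have h3 := hD (pullback.fst c a) z' h2
    have h4 : (pullback.fst c a).base z' = z := hz1
    rw [h4] at h3
    exact h3
  · intro h K _ Z c b j hpb z hz
    let ι : Z ⟶ pullback f j := pullback.lift (c ≫ a) b (by rw [Category.assoc, hpb.w])
    have h1 : IsPullback c ι a (pullback.fst f j) := by
      refine IsPullback.of_bot ?_ (pullback.lift_fst _ _ _).symm (IsPullback.of_hasPullback f j)
      rw [pullback.lift_snd]
      exact hpb
    have h5 : Etale ι := MorphismProperty.of_isPullback (P := @Etale) h1 inferInstance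
    have h2 := h K _ _ _ j (IsPullback.of_hasPullback f j) (ι.base z) (by
      rw [← Scheme.Hom.comp_apply, pullback.lift_fst, Scheme.Hom.comp_apply, hz])
    have h6 : IsLocallyNoetherian (pullback f j) := LocallyOfFiniteType.isLocallyNoetherian (pullback.snd f j)
    exact hE ι z h2

/-- The `LocusProp` attached to a property of rings. -/
theorem locusProp_geomAt (hD : FlatDesc P) (hE : EtAsc P)
    (hO : ∀ ⦃X Y : Scheme.{u}⦄ (f : X ⟶ Y) [Flat f] [LocallyOfFinitePresentation f], IsOpen {x : X | GeomAt P f x}) :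
    LocusProp.{u} (fun _ _ f x => GeomAt P f x) where
  isOpen _ _ f _ _ := hO f
  baseChange _ _ _ _ _ _ _ _ _ _ hsq x' := geomAt_iff_of_isPullback hD hsq x'
  source _ _ _ a f _ _ _ u := geomAt_comp_etale hD hE a f u

end K901.Loci
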