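import Groth.Agent.CurvSt.K901.GenusObj
import Groth.Agent.CurvSt.K901.SchPre
import Groth.Agent.CurvSt.K901.SchRed

/-!
# Open substacks of the stack of curves given by the geometric fibres: reduced connected curves, prestable curves
-/

set_option autoImplicit false
universe u

open CategoryTheory CategoryTheory.Limits AlgebraicGeometry

namespace K901.RowsRed

open Groth.Agent AlgSp CurvSt K901.EtSch K901.SchLoc K901.GeomFibAt

variable {S : Scheme.{u}}

theorem hasOpenLocus_redConn {n : ℕ} (hE : ∀ A : (Curves S n).obj, EtLocSch A.obj) :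
    K899.OpenCrit.HasOpenLocus (𝒳 := Curves S n) (fun A => GeomFib (SchRed.RedConnProp n) A.obj) :=
  hasOpenLocus (SchRed.extDesc_redConn n) hE fun B f1 f2 f3 f4 => by
    rw [locus_toSpFam]
    exact SchRed.isOpen_redConn B.f B.sect B.sect_f

theorem s17295 (hE : ∀ A : (Curves S 0).obj, EtLocSch A.obj)
    (hC : AlgSt.IsAlgStack Scheme.fppfPrecoverage (CurvSt.Curves S 0)) :
    AlgSt.IsOpenSubstack (CurvSt.Curves S 0) (fun A => CurvSt.GeomFib (fun _ _ _ X' _ _ =>
            IsReduced X' ∧ ConnectedSpace ↥X' ∧ topologicalKrullDim ↥X' = 1) A.obj) Scheme.fppfPrecoverage ∧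
      ∀ (Ω : Type u) [Field Ω] [IsAlgClosed Ω] (t : Spec (CommRingCat.of Ω) ⟶ S),
        Nonempty ((AlgSt.fullSub (CurvSt.Curves S 0) (fun A => CurvSt.GeomFib (fun _ _ _ X' _ _ =>
            IsReduced X' ∧ ConnectedSpace ↥X' ∧ topologicalKrullDim ↥X' = 1) A.obj)).p.Fiber (Over.mk t)) :=
  ⟨K899.OpenCrit.isOpenSubstack hC (hasOpenLocus_redConn hE), fun Ω _ _ t =>
    GenusObj.nonempty_fiber 0 (P := SchRed.RedConnProp 0)
      (fun _ _ _ _ _ _ _ _ _ h4 h5 _ => ⟨h4, inferInstance, h5⟩) t⟩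

end K901.RowsRed
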